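import Groth.Prelude.Def_Magnet2
import Groth.Prelude.Def_Magnet3
import Groth.Agent.Lib.AlgSpace.ValLift
import Mathlib.AlgebraicGeometry.Morphisms.SchemeTheoreticallyDominant
import Mathlib.Algebra.MonoidAlgebra.Module

/-! Morphisms out of `A(N) × T` are determined on `A(M) × T` for separated targets. -/

universe u

open CategoryTheory CategoryTheory.Limits MonoidalCategory CartesianMonoidalCategory MonObj AlgebraicGeometry
open scoped TensorProduct

set_option autoImplicit false
set_option linter.style.haveILetI false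
set_option backward.isDefEq.respectTransparency false
set_option backward.isDefEq.respectTransparency.types false

namespace Groth.Agent.Magnet16

/-- Morphisms to a separated target agreeing after a schematically dominant morphism agree. -/
theorem eq_of_schDom_of_separated {D Y X Z : Scheme.{u}} (g : D ⟶ Y) [IsSchemeTheoreticallyDominant g]
    (h : X ⟶ Z) [IsSeparated h] (a b : Y ⟶ X) (hw : a ≫ h = b ≫ h) (e : g ≫ a = g ≫ b) : a = b := by
  let i := pullback.snd (pullback.diagonal h) (pullback.lift a b hw)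
  have hl : (g ≫ a) ≫ pullback.diagonal h = g ≫ pullback.lift a b hw := by
    apply pullback.hom_ext <;> simp [e]
  haveI : IsSchemeTheoreticallyDominant (pullback.lift (g ≫ a) g hl ≫ i) := by
    rw [pullback.lift_snd]; infer_instance
  haveI : IsSchemeTheoreticallyDominant i := AlgSpace.schDom_of_comp (pullback.lift (g ≫ a) g hl) i
  haveI : IsIso i := IsClosedImmersion.isIso_iff_ker_eq_bot.2 i.ker_eq_bot
  rw [← cancel_epi i]
  have h₁ := congrArg (· ≫ pullback.fst h h) (pullback.condition (f := pullback.diagonal h) (g := pullback.lift a b hw))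
  have h₂ := congrArg (· ≫ pullback.snd h h) (pullback.condition (f := pullback.diagonal h) (g := pullback.lift a b hw))
  simp only [Category.assoc, pullback.diagonal_fst, pullback.diagonal_snd, pullback.lift_fst, pullback.lift_snd,
    Category.comp_id] at h₁ h₂
  exact h₁.symm.trans h₂

/-- An injective map of monoids gives universally injective maps of monoid algebras. -/
theorem injective_map_mapDomain {R A : Type u} [CommRing R] [CommRing A] [Algebra R A] {N M : Type} [CommMonoid N]
    [CommMonoid M] (f : N →* M) (hf : Function.Injective f) :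
    Function.Injective (Algebra.TensorProduct.map (MonoidAlgebra.mapDomainAlgHom R R f) (AlgHom.id R A)) := by
  let r : MonoidAlgebra R M →ₗ[R] MonoidAlgebra R N :=
    (MonoidAlgebra.basis M R).constr R
      (Function.extend f (fun n => MonoidAlgebra.single n (1 : R)) (fun _ => 0))
  have hr : r ∘ₗ (MonoidAlgebra.mapDomainAlgHom R R f).toLinearMap = LinearMap.id := by
    refine (MonoidAlgebra.basis N R).ext fun n => ?_
    simp only [LinearMap.comp_apply, AlgHom.toLinearMap_apply, MonoidAlgebra.basis_apply, LinearMap.id_apply]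
    rw [show MonoidAlgebra.mapDomainAlgHom R R f (MonoidAlgebra.single n 1) = MonoidAlgebra.basis M R (f n) by
      simp [MonoidAlgebra.basis_apply]]
    rw [Module.Basis.constr_basis, hf.extend_apply]
  intro x y h
  have h' := congrArg (r.rTensor A) h
  have key : ∀ z, r.rTensor A (Algebra.TensorProduct.map (MonoidAlgebra.mapDomainAlgHom R R f) (AlgHom.id R A) z) = z := by
    intro z
    change r.rTensor A ((MonoidAlgebra.mapDomainAlgHom R R f).toLinearMap.rTensor A z) = z
    rw [← LinearMap.rTensor_comp_apply, hr, LinearMap.rTensor_id, LinearMap.id_apply]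
  rwa [key, key] at h'

variable {S : Scheme.{u}}

section Square

variable (N : Type) [AddCommMonoid N] (T : Over S)

/-- `A(N) × T` over the absolute base. -/
theorem isPullback_absolute :
    IsPullback ((fst (Magnet.AMonS S N) T).left ≫ pullback.fst (Magnet.AMon (ULift.{u} ℤ) N).hom _)
      (snd (Magnet.AMonS S N) T).left (Magnet.AMon (ULift.{u} ℤ) N).hom
      (T.hom ≫ Limits.IsTerminal.from specULiftZIsTerminal S) :=
  (IsPullback.of_hasPullback (Magnet.AMonS S N).hom T.hom).paste_horiz (IsPullback.of_hasPullback _ _)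

end Square

/-- The abstract form of the density of `A(M) × T` in `A(N) × T`. -/
theorem hom_ext_of_squares {k : Type u} [CommRing k] (hk : IsTerminal (Spec (CommRingCat.of k))) {N M : Type}
    [CommMonoid N] [CommMonoid M] (f : N →* M) (hf : Function.Injective f) {PN PM T X Z : Scheme.{u}}
    {qN : PN ⟶ Spec (CommRingCat.of (MonoidAlgebra k N))} {pN : PN ⟶ T}
    {qM : PM ⟶ Spec (CommRingCat.of (MonoidAlgebra k M))} {pM : PM ⟶ T} {b : T ⟶ Spec (CommRingCat.of k)}
    (HN : IsPullback qN pN (Spec.map (CommRingCat.ofHom (algebraMap k (MonoidAlgebra k N)))) b)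
    (HM : IsPullback qM pM (Spec.map (CommRingCat.ofHom (algebraMap k (MonoidAlgebra k M)))) b)
    (Ψ : PM ⟶ PN)
    (hq : Ψ ≫ qN = qM ≫ Spec.map (CommRingCat.ofHom (MonoidAlgebra.mapDomainAlgHom k k f).toRingHom))
    (hp : Ψ ≫ pN = pM) (h : X ⟶ Z) [IsSeparated h] (u v : PN ⟶ X) (hw : u ≫ h = v ≫ h)
    (e : Ψ ≫ u = Ψ ≫ v) : u = v := by
  let 𝒰 := T.affineCover
  refine Scheme.Cover.hom_ext (Precoverage.ZeroHypercover.pullback₁ pN 𝒰) _ _ fun i => ?_
  obtain ⟨R, ⟨ρ⟩⟩ : ∃ R : CommRingCat.{u}, Nonempty (Spec R ≅ 𝒰.X i) := ⟨_, ⟨(𝒰.X i).isoSpec.symm⟩⟩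
  let t : Spec R ⟶ T := ρ.hom ≫ 𝒰.f i
  letI : Algebra k R := (Spec.preimage (t ≫ b)).hom.toAlgebra
  have hsq : ∀ (P : Type) [CommMonoid P], IsPullback
      (Spec.map (CommRingCat.ofHom (Algebra.TensorProduct.includeLeftRingHom :
        MonoidAlgebra k P →+* MonoidAlgebra k P ⊗[k] R)))
      (Spec.map (CommRingCat.ofHom
        (Algebra.TensorProduct.includeRight (R := k) (A := MonoidAlgebra k P) (B := R)).toRingHom))
      (Spec.map (CommRingCat.ofHom (algebraMap k (MonoidAlgebra k P)))) (t ≫ b) := fun P _ =>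
    IsPullback.of_iso (IsPullback.of_hasPullback
      (Spec.map (CommRingCat.ofHom (algebraMap k (MonoidAlgebra k P))))
      (Spec.map (CommRingCat.ofHom (algebraMap k R)))) (pullbackSpecIso _ _ _) (Iso.refl _) (Iso.refl _) (Iso.refl _)
      (by rw [Iso.refl_hom, Category.comp_id]; exact (pullbackSpecIso_hom_fst _ _ _).symm)
      (by rw [Iso.refl_hom, Category.comp_id]; exact (pullbackSpecIso_hom_snd _ _ _).symm)
      (hk.hom_ext _ _) (hk.hom_ext _ _)
  let κN := HN.lift _ (_ ≫ t) ((hsq N).w.trans (Category.assoc _ _ _).symm)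
  let κM := HM.lift _ (_ ≫ t) ((hsq M).w.trans (Category.assoc _ _ _).symm)
  let F := MonoidAlgebra.mapDomainAlgHom k k f
  let g : Spec (CommRingCat.of (MonoidAlgebra k M ⊗[k] R)) ⟶ Spec (CommRingCat.of (MonoidAlgebra k N ⊗[k] R)) :=
    Spec.map (CommRingCat.ofHom (Algebra.TensorProduct.map F (AlgHom.id k R)).toRingHom)
  haveI : IsSchemeTheoreticallyDominant g := AlgSpace.schDom_SpecMap _ (injective_map_mapDomain f hf)
  have hg : g ≫ κN = κM ≫ Ψ := by
    apply HN.hom_ext
    · simp only [κN, κM, Category.assoc, IsPullback.lift_fst, hq]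
      rw [IsPullback.lift_fst_assoc, ← Spec.map_comp, ← Spec.map_comp]
      congr 1
    · simp only [κN, κM, Category.assoc, IsPullback.lift_snd, hp]
      rw [← Category.assoc, ← Spec.map_comp]
      congr 2
      ext x
      exact (Algebra.TensorProduct.map_tmul F (AlgHom.id k R) 1 x).trans (by rw [map_one]; rfl)
  have key : κN ≫ u = κN ≫ v := by
    refine eq_of_schDom_of_separated g h _ _ (by rw [Category.assoc, Category.assoc, hw]) ?_
    rw [← Category.assoc, hg, Category.assoc, e, ← Category.assoc, ← hg, Category.assoc]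
  have hκ : IsPullback κN (Spec.map (CommRingCat.ofHom
      (Algebra.TensorProduct.includeRight (R := k) (A := MonoidAlgebra k N) (B := R)).toRingHom)) pN t :=
    IsPullback.of_right (by simpa [κN] using hsq N) (HN.lift_snd _ _ _) HN
  have e' : IsPullback (pullback.fst pN (𝒰.f i)) (pullback.snd pN (𝒰.f i) ≫ ρ.inv) pN t :=
    IsPullback.of_iso (IsPullback.of_hasPullback _ _) (Iso.refl _) (Iso.refl _) ρ.symm (Iso.refl _)
      (by simp) (by simp) (by simp) (by simp [t])
  change pullback.fst _ _ ≫ u = pullback.fst _ _ ≫ v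
  rw [← IsPullback.isoIsPullback_hom_fst _ _ e' hκ, Category.assoc, Category.assoc, key]

/-- Two morphisms from `A(N) × T` to a separated scheme agreeing on `A(M) × T` agree. -/
theorem hom_ext_of_injective {N M : Type} [AddCommMonoid N] [AddCommMonoid M] (f : N →+ M) (hf : Function.Injective f)
    (T X : Over S) [IsSeparated X.hom] (a b : Magnet.AMonS S N ⊗ T ⟶ X)
    (h : (Magnet.AMonS.map S f ▷ T) ≫ a = (Magnet.AMonS.map S f ▷ T) ≫ b) : a = b := by
  ext : 1
  refine hom_ext_of_squares (k := ULift.{u} ℤ) specULiftZIsTerminal (AddMonoidHom.toMultiplicative f)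
    (fun x y hxy => Multiplicative.toAdd.injective (hf (Multiplicative.ofAdd.injective hxy)))
    (isPullback_absolute N T) (isPullback_absolute M T) (Magnet.AMonS.map S f ▷ T).left ?_ ?_ X.hom _ _
    ((Over.w a).trans (Over.w b).symm) (congrArg CommaMorphism.left h)
  · rw [← Category.assoc, ← Over.comp_left, whiskerRight_fst, Over.comp_left, Category.assoc]
    simp [Magnet.AMonS.map, Magnet.AMon.map_left]
    rfl
  · rw [← Over.comp_left, whiskerRight_snd]

/-- An equivariant family is determined on `A × T` by its value at the unit. -/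
theorem map_whiskerRight_eqvHom {C : Type*} [Category C] [CartesianMonoidalCategory C] {A B X T : C} [MonObj A]
    [MonObj B] (ψ : A ⟶ B) [IsMonHom ψ] (act : Magnet.MonAct A X) (φ : B ⊗ T ⟶ X)
    (hφ : Magnet.MonAct.IsEquivariant (((Magnet.MonAct.regular B).restrict ψ).prod (Magnet.MonAct.trivial A T)) act φ) :
    (ψ ▷ T) ≫ φ = lift (fst A T) (snd A T ≫ lift (toUnit T ≫ η[B]) (𝟙 T) ≫ φ) ≫ act.act := by
  apply Magnet.hom_ext_lift₂
  intro T' g t
  have h := (Magnet.MonAct.mem_eqvHom_iff φ).1 hφ T' g 1 t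
  rw [Magnet.MonAct.lift_restrict_act, Magnet.MonAct.lift_regular_act, _root_.mul_one] at h
  rw [lift_whiskerRight_assoc, h, comp_lift_assoc, lift_fst, lift_snd_assoc, comp_lift_assoc, Category.comp_id,
    Hom.one_def, ← Category.assoc t, comp_toUnit]

variable {M : Type} [AddCommMonoid M] {X : Over S} (act : Magnet.MonAct (Magnet.AMonS S M) X)

theorem injective_evalAt [IsSeparated X.hom] {N : AddSubmonoid M} {T : Over S}
    (φ ψ : Magnet.AMonS S N ⊗ T ⟶ X)
    (hφ : Magnet.MonAct.IsEquivariant ((Magnet.subAct S M N).prod (Magnet.MonAct.trivial _ T)) act φ)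
    (hψ : Magnet.MonAct.IsEquivariant ((Magnet.subAct S M N).prod (Magnet.MonAct.trivial _ T)) act ψ)
    (h : lift (toUnit T ≫ η[Magnet.AMonS S N]) (𝟙 T) ≫ φ = lift (toUnit T ≫ η[Magnet.AMonS S N]) (𝟙 T) ≫ ψ) :
    φ = ψ := by
  refine hom_ext_of_injective N.subtype N.subtype_injective T X φ ψ ?_
  rw [map_whiskerRight_eqvHom _ act φ hφ, map_whiskerRight_eqvHom _ act ψ hψ, h]

end Groth.Agent.Magnet16
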