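import Groth.Agent.Lib.Magnet16.AffineLine
import Groth.Prelude.Def_Magnet3
import Mathlib.AlgebraicGeometry.Morphisms.Flat
import Mathlib.AlgebraicGeometry.ResidueField
import Mathlib.RingTheory.Localization.FractionRing

/-! # Equivariant maps out of `A¹ × Y` are determined by their restrictions to the infinitesimal
neighbourhoods of the origin -/

set_option autoImplicit false
set_option linter.style.haveILetI false
set_option backward.isDefEq.respectTransparency.types false
universe u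

open CategoryTheory CategoryTheory.Limits MonoidalCategory CartesianMonoidalCategory MonObj AlgebraicGeometry
  Opposite Polynomial

noncomputable section

namespace Groth.Agent.Magnet16

section Flat

variable {S : Scheme.{u}}

theorem flat_AMonS (M : Type) [AddCommMonoid M] : Flat (Magnet.AMonS S M).hom := by
  haveI : Flat (Magnet.AMon (ULift.{u} ℤ) M).hom := by
    show Flat (Spec.map (CommRingCat.ofHom (algebraMap (ULift.{u} ℤ) (MonoidAlgebra (ULift.{u} ℤ) (Multiplicative M)))))
    rw [Flat.SpecMap_iff]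
    show (algebraMap (ULift.{u} ℤ) (MonoidAlgebra (ULift.{u} ℤ) (Multiplicative M))).Flat
    rw [RingHom.flat_algebraMap_iff]
    infer_instance
  exact MorphismProperty.pullback_snd (P := @Flat) _ _ inferInstance

/-- The inverse point of `A(M)` for a group `M`. -/
def invPt {M : Type} [AddCommGroup M] {T : Over S} (g : T ⟶ Magnet.AMonS S M) : T ⟶ Magnet.AMonS S M :=
  (chS_surj ((chS g).comp (MulEquiv.inv (Multiplicative M)).toMonoidHom)).choose

theorem chS_invPt {M : Type} [AddCommGroup M] {T : Over S} (g : T ⟶ Magnet.AMonS S M) (a : Multiplicative M) :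
    chS (invPt g) a = chS g a⁻¹ :=
  DFunLike.congr_fun
    (chS_surj ((chS g).comp (MulEquiv.inv (Multiplicative M)).toMonoidHom)).choose_spec a

theorem invPt_mul {M : Type} [AddCommGroup M] {T : Over S} (g : T ⟶ Magnet.AMonS S M) : invPt g * g = 1 := by
  refine chS_inj fun a => ?_
  rw [chS_mul, chS_invPt, ← map_mul, inv_mul_cancel, map_one, chS_one]

theorem mul_invPt {M : Type} [AddCommGroup M] {T : Over S} (g : T ⟶ Magnet.AMonS S M) : g * invPt g = 1 := by
  refine chS_inj fun a => ?_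
  rw [chS_mul, chS_invPt, ← map_mul, mul_inv_cancel, map_one, chS_one]

theorem comp_invPt {M : Type} [AddCommGroup M] {T T' : Over S} (t : T' ⟶ T) (g : T ⟶ Magnet.AMonS S M) :
    t ≫ invPt g = invPt (t ≫ g) := by
  refine chS_inj fun a => ?_
  rw [chS_nat, chS_invPt, chS_invPt, chS_nat]

theorem flat_act {M : Type} [AddCommGroup M] {P : Over S} (α : Magnet.MonAct (Magnet.AMonS S M) P) :
    Flat α.act.left := by
  let σ : Magnet.AMonS S M ⊗ P ≅ Magnet.AMonS S M ⊗ P :=
    { hom := lift (fst _ _) α.act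
      inv := lift (fst _ _) (lift (invPt (fst _ _)) (snd _ _) ≫ α.act)
      hom_inv_id := by
        apply Magnet.hom_ext_lift₂
        intro T g p
        rw [Category.comp_id]
        apply CartesianMonoidalCategory.hom_ext
        · simp only [Category.assoc, lift_fst, lift_fst_assoc]
        · simp only [Category.assoc, lift_snd, lift_snd_assoc, comp_lift_assoc, comp_invPt, lift_fst]
          rw [← α.lift_mul_act, invPt_mul, α.lift_one_act]
      inv_hom_id := by
        apply Magnet.hom_ext_lift₂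
        intro T g p
        rw [Category.comp_id]
        apply CartesianMonoidalCategory.hom_ext
        · simp only [Category.assoc, lift_fst, lift_fst_assoc]
        · simp only [Category.assoc, lift_snd, lift_snd_assoc, comp_lift_assoc, comp_invPt, lift_fst]
          rw [← α.lift_mul_act, mul_invPt, α.lift_one_act] }
  have e : α.act = σ.hom ≫ snd _ _ := (lift_snd _ _).symm
  haveI : Flat (Magnet.AMonS S M).hom := flat_AMonS M
  haveI : Flat (snd (Magnet.AMonS S M) P).left :=
    MorphismProperty.pullback_snd (P := @Flat) (Magnet.AMonS S M).hom P.hom inferInstance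
  haveI : IsIso σ.hom := σ.isIso_hom
  haveI : IsIso σ.hom.left := inferInstanceAs (IsIso ((Over.forget _).map σ.hom))
  rw [e, Over.comp_left]
  infer_instance

end Flat

variable {k : Type u} [CommRing k] {X Y : Over (Spec (CommRingCat.of k))}

/-- The largest open on which two morphisms agree. -/
def agree {P Z : Scheme.{u}} (u v : P ⟶ Z) : P.Opens := ⨆ W : {W : P.Opens // W.ι ≫ u = W.ι ≫ v}, W.1

theorem agree_spec {P Z : Scheme.{u}} (u v : P ⟶ Z) : (agree u v).ι ≫ u = (agree u v).ι ≫ v := by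
  refine Scheme.hom_ext_of_forall _ _ fun x => ?_
  obtain ⟨⟨W, hW⟩, hx⟩ := TopologicalSpace.Opens.mem_iSup.1 (show (agree u v).ι x ∈ agree u v from x.2)
  have hle : W ≤ agree u v := le_iSup (fun W : {W : P.Opens // W.ι ≫ u = W.ι ≫ v} => W.1) ⟨W, hW⟩
  refine ⟨(agree u v).ι ⁻¹ᵁ W, hx, ?_⟩
  have e : ((agree u v).ι ⁻¹ᵁ W).ι ≫ (agree u v).ι =
      IsOpenImmersion.lift W.ι (((agree u v).ι ⁻¹ᵁ W).ι ≫ (agree u v).ι) (by
        rw [W.range_ι]
        rintro _ ⟨z, rfl⟩
        exact z.2) ≫ W.ι := (IsOpenImmersion.lift_fac _ _ _).symm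
  rw [← Category.assoc, ← Category.assoc, e, Category.assoc, Category.assoc, hW]

theorem mem_agree {P Z : Scheme.{u}} (u v : P ⟶ Z) {Q : Scheme.{u}} (i : Q ⟶ P) [IsOpenImmersion i]
    (h : i ≫ u = i ≫ v) (q : Q) : i q ∈ agree u v := by
  refine TopologicalSpace.Opens.mem_iSup.2 ⟨⟨i.opensRange, ?_⟩, ⟨q, rfl⟩⟩
  rw [← cancel_epi i.isoOpensRange.hom, ← Category.assoc, ← Category.assoc, Scheme.Hom.isoOpensRange_hom_ι, h]

section Main

variable (γ₁ γ₂ : Magnet.AMonS (Spec (CommRingCat.of k)) NN ⊗ Y ⟶ X)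
  (h : ∀ (T : Over (Spec (CommRingCat.of k))) (m : T ⟶ Magnet.AMonS (Spec (CommRingCat.of k)) NN) (t : T ⟶ Y),
    (∃ n : ℕ, sc m ^ (n + 1) = 0) → lift m t ≫ γ₁ = lift m t ≫ γ₂)

include h in
theorem chart_formal {R : Type u} [CommRing R] [Algebra k R] (j : CoactBr.sp k R ⟶ Y) (n : ℕ) :
    Spec.map (CommRingCat.ofHom (Ideal.Quotient.mk (Ideal.span {(Polynomial.X : R[X]) ^ (n + 1)}))) ≫
        (chart j ≫ γ₁).left =
      Spec.map (CommRingCat.ofHom (Ideal.Quotient.mk (Ideal.span {(Polynomial.X : R[X]) ^ (n + 1)}))) ≫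
        (chart j ≫ γ₂).left := by
  let q := CoactBr.pt (Ideal.Quotient.mkₐ k (Ideal.span {(Polynomial.X : R[X]) ^ (n + 1)}))
  have e : q ≫ chart j = lift (q ≫ bX k R) (q ≫ CoactBr.pt (CAlgHom : R →ₐ[k] R[X]) ≫ j) := comp_lift _ _ _
  have hs : sc (q ≫ bX k R) ^ (n + 1) = 0 := by
    rw [sc_nat, sc_bX, appTop_pt]
    show (Scheme.ΓSpecIso _).inv.hom _ ^ (n + 1) = 0
    rw [← map_pow, ← map_pow]
    have : (Ideal.Quotient.mkₐ k (Ideal.span {(Polynomial.X : R[X]) ^ (n + 1)})) ((Polynomial.X : R[X]) ^ (n + 1)) = 0 :=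
      Ideal.Quotient.eq_zero_iff_mem.2 (Ideal.subset_span rfl)
    rw [this, map_zero]
  have := congrArg CommaMorphism.left (h _ _ (q ≫ CoactBr.pt (CAlgHom : R →ₐ[k] R[X]) ≫ j) ⟨n, hs⟩)
  rw [← e, Category.assoc, Category.assoc] at this
  exact this

include h in
theorem orig_mem_agree (y : Y.left) : (lift (orig Y) (𝟙 Y)).left y ∈ agree γ₁.left γ₂.left := by
  obtain ⟨_, ⟨V, hV, rfl⟩, hyV, -⟩ :=
    Y.left.isBasis_affineOpens.exists_subset_of_mem_open (Set.mem_univ y) isOpen_univ
  let R : Type u := Γ(Y.left, V)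
  obtain ⟨φ, hφ⟩ : ∃ φ : CommRingCat.of k ⟶ Γ(Y.left, V), Spec.map φ = hV.fromSpec ≫ Y.hom :=
    ⟨_, Spec.map_preimage _⟩
  letI : Algebra k R := φ.hom.toAlgebra
  let j : CoactBr.sp k R ⟶ Y := Over.homMk hV.fromSpec hφ.symm
  haveI : IsOpenImmersion j.left := hV.isOpenImmersion_fromSpec
  obtain ⟨p, hp⟩ : ∃ p, j.left p = y := by
    have : y ∈ Set.range hV.fromSpec := by rw [hV.range_fromSpec]; exact hyV
    exact this
  subst hp
  let Z0 := lift (orig Y) (𝟙 Y)
  let x₁ := (Z0 ≫ γ₁).left (j.left p)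
  have hx : (Z0 ≫ γ₂).left (j.left p) = x₁ := by
    have := congrArg (fun f : Y ⟶ X => f.left (j.left p))
      (h Y (orig Y) (𝟙 Y) ⟨0, by rw [sc_orig, zero_pow (by omega)]⟩)
    exact this.symm
  obtain ⟨_, ⟨U, hU, rfl⟩, hxU, -⟩ :=
    X.left.isBasis_affineOpens.exists_subset_of_mem_open (Set.mem_univ x₁) isOpen_univ
  let z0 := (CoactBr.pt (evalZero k R)).left p
  have hz : (chart j).left z0 = Z0.left (j.left p) := by
    show ((CoactBr.pt (evalZero k R) ≫ chart j).left) p = (j ≫ Z0).left p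
    rw [evalZero_chart]
  have hz₁ : z0 ∈ (chart j ≫ γ₁).left ⁻¹ᵁ U ⊓ (chart j ≫ γ₂).left ⁻¹ᵁ U := by
    refine ⟨?_, ?_⟩
    · show γ₁.left ((chart j).left z0) ∈ U
      rw [hz]
      exact hxU
    · show γ₂.left ((chart j).left z0) ∈ U
      rw [hz]
      show (Z0 ≫ γ₂).left (j.left p) ∈ U
      rw [hx]
      exact hxU
  obtain ⟨_, ⟨f, rfl⟩, hzf, hfU⟩ :=
    PrimeSpectrum.isTopologicalBasis_basic_opens.exists_subset_of_mem_open hz₁
      ((chart j ≫ γ₁).left ⁻¹ᵁ U ⊓ (chart j ≫ γ₂).left ⁻¹ᵁ U).isOpen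
  have hf0 : p ∈ PrimeSpectrum.basicOpen (f.coeff 0) := by
    have : evalZero k R f ∉ p.asIdeal := hzf
    show f.coeff 0 ∉ p.asIdeal
    simpa [evalZero, Polynomial.aeval_def, Polynomial.coeff_zero_eq_eval_zero] using this
  let R' : Type u := Localization.Away (f.coeff 0)
  obtain ⟨p', hp'⟩ := (PrimeSpectrum.localization_away_comap_range R' (f.coeff 0)).ge hf0
  let ρ : R →ₐ[k] R' := IsScalarTower.toAlgHom k R R'
  let j' : CoactBr.sp k R' ⟶ Y := CoactBr.pt ρ ≫ j
  haveI : IsOpenImmersion j'.left := by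
    haveI : IsOpenImmersion (Spec.map (CommRingCat.ofHom (algebraMap R R'))) :=
      IsOpenImmersion.of_isLocalization (f.coeff 0)
    show IsOpenImmersion (Spec.map (CommRingCat.ofHom (algebraMap R R')) ≫ hV.fromSpec)
    exact MorphismProperty.comp_mem @IsOpenImmersion _ _ inferInstance hV.isOpenImmersion_fromSpec
  haveI := isOpenImmersion_chart j'
  let f' : R'[X] := Polynomial.mapAlgHom ρ f
  have hin : ∀ z, z ∈ PrimeSpectrum.basicOpen f' → (chart j' ≫ γ₁).left z ∈ U ∧ (chart j' ≫ γ₂).left z ∈ U := by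
    intro z hzz
    have hm : (CoactBr.pt (Polynomial.mapAlgHom ρ)).left z ∈ PrimeSpectrum.basicOpen f := hzz
    have := hfU hm
    rw [← pt_map_chart]
    exact this
  have hu : IsUnit (f'.coeff 0) := by
    show IsUnit ((Polynomial.map (algebraMap R R') f).coeff 0)
    rw [Polynomial.coeff_map]
    exact IsLocalization.Away.algebraMap_isUnit (f.coeff 0)
  have key := eq_of_formally_eq (chart j' ≫ γ₁).left (chart j' ≫ γ₂).left hU f' (fun z hz => (hin z hz).1)
    (fun z hz => (hin z hz).2) hu (chart_formal γ₁ γ₂ h j')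
  let i : Spec (CommRingCat.of (Localization.Away f')) ⟶ _ :=
    Spec.map (CommRingCat.ofHom (algebraMap R'[X] (Localization.Away f'))) ≫ (chart j').left
  haveI : IsOpenImmersion (Spec.map (CommRingCat.ofHom (algebraMap R'[X] (Localization.Away f')))) :=
    IsOpenImmersion.of_isLocalization f'
  haveI : IsOpenImmersion i := MorphismProperty.comp_mem @IsOpenImmersion _ _ inferInstance (isOpenImmersion_chart j')
  have hz' : (CoactBr.pt (evalZero k R')).left p' ∈ PrimeSpectrum.basicOpen f' := by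
    show evalZero k R' f' ∉ p'.asIdeal
    refine fun hmem => p'.isPrime.ne_top (Ideal.eq_top_of_isUnit_mem _ hmem ?_)
    simpa [evalZero, Polynomial.aeval_def, ← Polynomial.coeff_zero_eq_eval_zero] using hu
  obtain ⟨w, hw⟩ := (PrimeSpectrum.localization_away_comap_range (Localization.Away f') f').ge hz'
  have hmem := mem_agree γ₁.left γ₂.left i (by
    simp only [i, Category.assoc]
    exact key) w
  have hi : i w = Z0.left (j.left p) := by
    have h1 : (CoactBr.pt ρ).left p' = p := hp'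
    show (chart j').left (Spec.map (CommRingCat.ofHom (algebraMap R'[X] (Localization.Away f'))) w) = _
    rw [show Spec.map (CommRingCat.ofHom (algebraMap R'[X] (Localization.Away f'))) w =
      (CoactBr.pt (evalZero k R')).left p' from hw]
    show ((CoactBr.pt (evalZero k R') ≫ chart j').left) p' = _
    rw [evalZero_chart]
    show Z0.left (j.left ((CoactBr.pt ρ).left p')) = _
    rw [h1]
  rw [← hi]
  exact hmem

variable (a : Magnet.MonAct (Magnet.AMonS (Spec (CommRingCat.of k)) ℤ) X)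
  (h₁ : Magnet.MonAct.IsEquivariant
    ((Magnet.subAct (Spec (CommRingCat.of k)) ℤ NN).prod (Magnet.MonAct.trivial _ Y)) a γ₁)
  (h₂ : Magnet.MonAct.IsEquivariant
    ((Magnet.subAct (Spec (CommRingCat.of k)) ℤ NN).prod (Magnet.MonAct.trivial _ Y)) a γ₂)

include h₁ h₂ in
/-- Equivariant maps out of `A¹ × Y` which agree near the zero section agree. -/
theorem eq_of_agree_orig (hmem : ∀ y, (lift (orig Y) (𝟙 Y)).left y ∈ agree γ₁.left γ₂.left) : γ₁ = γ₂ := by
  let P := Magnet.AMonS (Spec (CommRingCat.of k)) NN ⊗ Y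
  let α := (Magnet.subAct (Spec (CommRingCat.of k)) ℤ NN).prod
    (Magnet.MonAct.trivial (Magnet.AMonS (Spec (CommRingCat.of k)) ℤ) Y)
  let E := agree γ₁.left γ₂.left
  let W : Over (Spec (CommRingCat.of k)) := Over.mk (E.ι ≫ P.hom)
  let iW : W ⟶ P := Over.homMk E.ι rfl
  have hW : iW ≫ γ₁ = iW ≫ γ₂ := Over.OverMorphism.ext (agree_spec γ₁.left γ₂.left)
  let Φ : Magnet.AMonS (Spec (CommRingCat.of k)) ℤ ⊗ W ⟶ P := (_ ◁ iW) ≫ α.act
  have hΦ : Φ ≫ γ₁ = Φ ≫ γ₂ := by
    simp only [Φ, Category.assoc]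
    rw [h₁, h₂, ← MonoidalCategory.whiskerLeft_comp_assoc, hW, MonoidalCategory.whiskerLeft_comp_assoc]
  haveI : Flat Φ.left := by
    haveI : IsOpenImmersion iW.left := inferInstanceAs (IsOpenImmersion E.ι)
    haveI : IsOpenImmersion (Magnet.AMonS (Spec (CommRingCat.of k)) ℤ ◁ iW).left := by
      have h := isPullback_whiskerLeft (Magnet.AMonS (Spec (CommRingCat.of k)) ℤ) iW
      first
        | exact MorphismProperty.of_isPullback (P := @IsOpenImmersion) h inferInstance
        | exact MorphismProperty.of_isPullback (P := @IsOpenImmersion) h.flip inferInstance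
    haveI := flat_act α
    rw [Over.comp_left]
    infer_instance
  haveI : Surjective Φ.left := by
    refine ⟨fun q => ?_⟩
    let K : Type u := P.left.residueField q
    obtain ⟨φ, hφ⟩ : ∃ φ : CommRingCat.of k ⟶ P.left.residueField q,
        Spec.map φ = P.left.fromSpecResidueField q ≫ P.hom := ⟨_, Spec.map_preimage _⟩
    letI : Algebra k K := φ.hom.toAlgebra
    let qK : CoactBr.sp k K ⟶ P := Over.homMk (P.left.fromSpecResidueField q) hφ.symm
    let s0 : K := (Scheme.ΓSpecIso (CommRingCat.of K)).hom (sc (qK ≫ fst _ _))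
    have hs0 : gl s0 = sc (qK ≫ fst _ _) :=
      (Scheme.ΓSpecIso (CommRingCat.of K)).hom_inv_id_apply _
    let T1 := CoactBr.sp k K[X]
    let cK : T1 ⟶ CoactBr.sp k K := CoactBr.pt (CAlgHom : K →ₐ[k] K[X])
    obtain ⟨bπ, hbπ⟩ := sc_surj (T := T1) (gl ((Polynomial.X : K[X]) * C s0))
    let π : T1 ⟶ P := lift bπ (cK ≫ qK ≫ snd _ _)
    let o : CoactBr.sp k K ⟶ T1 := CoactBr.pt (evalZero k K)
    have hπ0 : o ≫ π = (qK ≫ snd _ _) ≫ lift (orig Y) (𝟙 Y) := by
      have ho : o ≫ cK = 𝟙 _ := by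
        rw [← CoactBr.pt_comp, ← CoactBr.pt_id]
        congr 1
        exact AlgHom.ext fun r => by simp [evalZero, CAlgHom]
      simp only [π, comp_lift, Category.comp_id, comp_orig]
      congr 1
      · refine sc_inj ?_
        rw [sc_nat, hbπ, sc_orig, appTop_pt]
        simp [evalZero, gl]
        try rfl
      · rw [← Category.assoc o cK, ho, Category.id_comp]
    let p0 : PrimeSpectrum K := ⟨⊥, Ideal.isPrime_bot⟩
    have hmem0 : π.left (o.left p0) ∈ E := by
      show (o ≫ π).left p0 ∈ E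
      rw [hπ0]
      exact hmem ((qK ≫ snd _ _).left p0)
    let L : Type u := FractionRing K[X]
    let lL : K[X] →ₐ[k] L := IsScalarTower.toAlgHom k K[X] L
    let qL : CoactBr.sp k L ⟶ P := CoactBr.pt lL ≫ π
    have hgen : ∀ w, qL.left w ∈ E := by
      intro w
      show π.left ((CoactBr.pt lL).left w) ∈ E
      have hsp : ((CoactBr.pt lL).left w : PrimeSpectrum K[X]) ⤳ o.left p0 := by
        refine (PrimeSpectrum.le_iff_specializes _ _).1 ?_
        intro z hz
        have hz' : algebraMap K[X] L z ∈ (w : PrimeSpectrum L).asIdeal := hz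
        have hz0 : z = 0 := by
          by_contra hne
          refine (w : PrimeSpectrum L).isPrime.ne_top (Ideal.eq_top_of_isUnit_mem _ hz' ?_)
          exact IsLocalization.map_units L (⟨z, mem_nonZeroDivisors_of_ne_zero hne⟩ : nonZeroDivisors K[X])
        rw [hz0]
        exact zero_mem _
      exact hsp.mem_open (π.left ⁻¹ᵁ E).isOpen hmem0
    let qE : CoactBr.sp k L ⟶ W := Over.homMk (IsOpenImmersion.lift E.ι qL.left (by
        rw [E.range_ι]
        rintro _ ⟨w, rfl⟩
        exact hgen w)) (by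
      show _ ≫ E.ι ≫ P.hom = _
      rw [IsOpenImmersion.lift_fac_assoc]
      exact Over.w qL)
    have hqE : qE ≫ iW = qL := Over.OverMorphism.ext (IsOpenImmersion.lift_fac _ _ _)
    let uX : Lˣ := (IsUnit.unit (IsLocalization.map_units L
      (⟨(Polynomial.X : K[X]), mem_nonZeroDivisors_of_ne_zero Polynomial.X_ne_zero⟩ : nonZeroDivisors K[X])))
    let uG : (Γ((CoactBr.sp k L).left, ⊤))ˣ := Units.map (Scheme.ΓSpecIso (CommRingCat.of L)).inv.hom.toMonoidHom uX
    obtain ⟨g, hg⟩ := chS_surj (S := Spec (CommRingCat.of k)) (M := ℤ) (T := CoactBr.sp k L)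
      ((Units.coeHom _).comp (zpowersHom _ uG⁻¹))
    let θ : K →ₐ[k] L := lL.comp CAlgHom
    have hz : lift g qE ≫ Φ = CoactBr.pt θ ≫ qK := by
      have hmid : qL = lift (CoactBr.pt lL ≫ bπ) (CoactBr.pt lL ≫ cK ≫ qK ≫ snd _ _) := by
        simp only [qL, π, comp_lift]
      simp only [Φ, lift_whiskerLeft_assoc, hqE]
      rw [hmid, Magnet.MonAct.lift_prod_act, Magnet.MonAct.lift_trivial_act]
      apply CartesianMonoidalCategory.hom_ext
      · rw [lift_fst, Category.assoc, Magnet.subAct, Magnet.MonAct.lift_restrict_act,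
          Magnet.MonAct.lift_regular_act]
        refine sc_inj ?_
        rw [sc_mul]
        have hgm : sc (g ≫ Magnet.AMonS.map _ NN.subtype) = ((uG⁻¹ : _ˣ) : Γ((CoactBr.sp k L).left, ⊤)) := by
          rw [sc, chS_map, hg]
          simp [zpowersHom_apply]
        rw [hgm, sc_nat, hbπ, sc_nat, ← hs0, appTop_pt, appTop_pt, map_mul]
        refine Eq.trans (congrArg (fun z : Γ((CoactBr.sp k L).left, ⊤) =>
          ((uG⁻¹ : _ˣ) : Γ((CoactBr.sp k L).left, ⊤)) * z)
          ((Scheme.ΓSpecIso (CommRingCat.of L)).inv.hom.map_mul (lL Polynomial.X) (lL (C s0)))) ?_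
        exact Units.inv_mul_cancel_left uG _
      · rw [lift_snd, Category.assoc, CoactBr.pt_comp, Category.assoc]
    have hw0 : ∀ w, (CoactBr.pt θ ≫ qK).left w = q := fun w =>
      P.left.fromSpecResidueField_apply q ((CoactBr.pt θ).left w)
    let w0 : PrimeSpectrum L := ⟨⊥, Ideal.isPrime_bot⟩
    refine ⟨(lift g qE).left w0, ?_⟩
    show (lift g qE ≫ Φ).left w0 = q
    rw [hz]
    exact hw0 w0
  apply Over.OverMorphism.ext
  haveI : Epi Φ.left := Flat.epi_of_flat_of_surjective _
  exact (cancel_epi Φ.left).1 (congrArg CommaMorphism.left hΦ)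

include h h₁ h₂ in
theorem eq_of_formal : γ₁ = γ₂ := eq_of_agree_orig γ₁ γ₂ a h₁ h₂ (orig_mem_agree γ₁ γ₂ h)

end Main

end Groth.Agent.Magnet16
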