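import Groth.Agent.Lib.Magnet16.Dense
import Mathlib.AlgebraicGeometry.Morphisms.FormallyUnramified
import Mathlib.AlgebraicGeometry.IdealSheaf.Functorial
import Mathlib.RingTheory.TensorProduct.Quotient

/-! Base changes of square-zero thickenings. -/

universe u

open CategoryTheory CategoryTheory.Limits MonoidalCategory CartesianMonoidalCategory MonObj AlgebraicGeometry
open scoped TensorProduct

set_option autoImplicit false
set_option linter.style.haveILetI false
set_option backward.isDefEq.respectTransparency false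
set_option backward.isDefEq.respectTransparency.types false

namespace Groth.Agent.Magnet16

theorem isNilpotent_ker_SpecMap {R P : CommRingCat.{u}} {Q : Scheme.{u}} [IsAffine Q] (φ : R ⟶ P)
    (e : Spec R ⟶ Q) [IsIso e] (h : RingHom.ker φ.hom ^ 2 = ⊥) :
    IsNilpotent (Spec.map φ ≫ e).ker := by
  refine ⟨2, Scheme.IdealSheafData.ext_of_isAffine ?_⟩
  rw [Scheme.IdealSheafData.ideal_pow, Pi.pow_apply, Scheme.Hom.ker_apply]
  let ε : Γ(Q, ⊤) ≅ R := asIso e.appTop ≪≫ Scheme.ΓSpecIso R
  have e' : RingHom.ker ((Spec.map φ ≫ e).app ⊤).hom = (RingHom.ker φ.hom).comap ε.hom.hom := by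
    ext x
    have := congrArg (fun f : _ ⟶ P => f.hom (e.appTop.hom x)) (Scheme.ΓSpecIso_naturality φ)
    simp only [CommRingCat.hom_comp, RingHom.comp_apply] at this
    rw [RingHom.mem_ker, Ideal.mem_comap, RingHom.mem_ker]
    refine Iff.trans ?_ (iff_of_eq (congrArg (· = 0) this))
    exact ((map_eq_zero_iff _ (Scheme.ΓSpecIso P).commRingCatIsoToRingEquiv.injective)).symm
  erw [e', ← Ideal.map_symm (f := ε.commRingCatIsoToRingEquiv), ← Ideal.map_pow, h, Ideal.map_bot]
  rfl

/-- The base change of a square-zero thickening of an affine scheme along an affine morphism has nilpotent kernel. -/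
theorem isNilpotent_ker_fst {A : Type u} [CommRing A] (I : Ideal A) (hI : I ^ 2 = ⊥) {Q : Scheme.{u}} [IsAffine Q]
    (g : Q ⟶ Spec (CommRingCat.of A)) :
    IsNilpotent (pullback.fst g (Spec.map (CommRingCat.ofHom (Ideal.Quotient.mk I)))).ker := by
  let R := Γ(Q, ⊤)
  letI : Algebra A R := (Spec.preimage (Q.isoSpec.inv ≫ g)).hom.toAlgebra
  have hg : Q.isoSpec.inv ≫ g = Spec.map (CommRingCat.ofHom (algebraMap A R)) := (Spec.map_preimage _).symm
  let i := Spec.map (CommRingCat.ofHom (Ideal.Quotient.mk I))
  have P : IsPullback (Spec.map (CommRingCat.ofHom (Algebra.TensorProduct.includeLeftRingHom :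
      R →+* R ⊗[A] (A ⧸ I))) ≫ Q.isoSpec.inv)
      (Spec.map (CommRingCat.ofHom
        (Algebra.TensorProduct.includeRight (R := A) (A := R) (B := A ⧸ I)).toRingHom)) g i :=
    IsPullback.of_iso (IsPullback.of_hasPullback (Spec.map (CommRingCat.ofHom (algebraMap A R)))
        (Spec.map (CommRingCat.ofHom (algebraMap A (A ⧸ I)))))
      (pullbackSpecIso _ _ _) Q.isoSpec.symm (Iso.refl _) (Iso.refl _)
      (by rw [Iso.symm_hom, ← pullbackSpecIso_hom_fst A R (A ⧸ I), Category.assoc])
      (by rw [Iso.refl_hom, Category.comp_id]; exact (pullbackSpecIso_hom_snd _ _ _).symm)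
      (by rw [Iso.refl_hom, Category.comp_id, Iso.symm_hom, hg])
      (by simp [i, Ideal.Quotient.algebraMap_eq])
  rw [← P.flip.flip.isoPullback_inv_fst, Scheme.Hom.ker_comp_of_isIso]
  have hk : RingHom.ker (Algebra.TensorProduct.includeLeftRingHom : R →+* R ⊗[A] (A ⧸ I)) ≤
      I.map (algebraMap A R) := by
    intro x hx
    rw [← Ideal.Quotient.eq_zero_iff_mem]
    apply (Algebra.TensorProduct.quotIdealMapEquivTensorQuot R I).injective
    rw [map_zero]
    exact (Algebra.TensorProduct.quotIdealMapEquivTensorQuot_mk R I x).trans hx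
  exact isNilpotent_ker_SpecMap _ _
    (le_bot_iff.1 ((Ideal.pow_right_mono hk 2).trans (by rw [← Ideal.map_pow, hI, Ideal.map_bot])))

/-- `B ◁ t` is the base change of `t`. -/
theorem isPullback_whiskerLeft {S : Scheme.{u}} (B : Over S) {T T' : Over S} (t : T' ⟶ T) :
    IsPullback (B ◁ t).left (snd B T').left (snd B T).left t.left := by
  have h₁ : IsPullback (fst B T').left (snd B T').left B.hom T'.hom := IsPullback.of_hasPullback B.hom T'.hom
  have h₂ : IsPullback (fst B T).left (snd B T).left B.hom T.hom := IsPullback.of_hasPullback B.hom T.hom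
  refine IsPullback.of_right ?_ (congrArg CommaMorphism.left (whiskerLeft_snd B t)) h₂
  rw [← Over.comp_left, whiskerLeft_fst, Over.w t]
  exact h₁

end Groth.Agent.Magnet16
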