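import Groth.Agent.Lib.Magnet16.Coords
import Groth.Agent.Lib.Magnet16.Thickening
import Mathlib.Algebra.Polynomial.AlgebraMap
import Mathlib.RingTheory.Localization.Away.Basic

/-! # The affine line as the monoid scheme of the non-negative integers, and maps agreeing on all
infinitesimal neighbourhoods of its zero section -/

set_option autoImplicit false
set_option linter.style.haveILetI false
set_option backward.isDefEq.respectTransparency.types false
universe u

open CategoryTheory CategoryTheory.Limits MonoidalCategory CartesianMonoidalCategory MonObj AlgebraicGeometry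
  Opposite Polynomial

noncomputable section

namespace Groth.Agent.Magnet16

/-- The natural numbers inside the integers. -/
abbrev NN : AddSubmonoid ℤ := AddSubmonoid.multiples (1 : ℤ)

/-- The generator. -/
abbrev g1 : Multiplicative NN := Multiplicative.ofAdd ⟨1, 1, one_smul ℕ _⟩

theorem exists_eq_pow_g1 (a : Multiplicative NN) : ∃ n : ℕ, a = g1 ^ n := by
  obtain ⟨n, hn⟩ := (Multiplicative.toAdd a).2
  refine ⟨n, Multiplicative.toAdd.injective (Subtype.ext ?_)⟩
  rw [toAdd_pow]
  exact hn.symm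

section Coord

variable {S : Scheme.{u}} {T T' : Over S}

/-- The coordinate of a point of the affine line. -/
def sc (b : T ⟶ Magnet.AMonS S NN) : Γ(T.left, ⊤) := chS b g1

theorem sc_nat (t : T' ⟶ T) (b : T ⟶ Magnet.AMonS S NN) : sc (t ≫ b) = t.left.appTop (sc b) :=
  chS_nat t b g1

theorem sc_mul (b b' : T ⟶ Magnet.AMonS S NN) : sc (b * b') = sc b * sc b' := chS_mul b b' g1

theorem sc_pow (b : T ⟶ Magnet.AMonS S NN) (n : ℕ) : sc (b ^ (n + 1)) = sc b ^ (n + 1) := chS_pow b n g1

theorem sc_inj {b b' : T ⟶ Magnet.AMonS S NN} (h : sc b = sc b') : b = b' := by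
  refine chS_inj fun a => ?_
  obtain ⟨n, rfl⟩ := exists_eq_pow_g1 a
  rw [map_pow, map_pow]
  exact congrArg (· ^ n) h

theorem sc_surj (s : Γ(T.left, ⊤)) : ∃ b : T ⟶ Magnet.AMonS S NN, sc b = s := by
  let c : Multiplicative NN →* Γ(T.left, ⊤) :=
    { toFun := fun a => s ^ ((Multiplicative.toAdd a).1).toNat
      map_one' := by simp
      map_mul' := fun a b => by
        obtain ⟨p, hp⟩ := (Multiplicative.toAdd a).2
        obtain ⟨q, hq⟩ := (Multiplicative.toAdd b).2
        simp only [toAdd_mul, AddSubmonoid.coe_add, ← hp, ← hq, nsmul_eq_mul, mul_one]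
        rw [← pow_add]
        congr 1 }
  obtain ⟨b, hb⟩ := chS_surj c
  exact ⟨b, by rw [sc, hb]; exact pow_one s⟩

/-- The origin. -/
def orig (T : Over S) : T ⟶ Magnet.AMonS S NN := (sc_surj (T := T) 0).choose

theorem sc_orig (T : Over S) : sc (orig T) = 0 := (sc_surj (T := T) 0).choose_spec

theorem comp_orig (t : T' ⟶ T) : t ≫ orig T = orig T' :=
  sc_inj (by rw [sc_nat, sc_orig, sc_orig, map_zero])

end Coord

section Chart

variable {k : Type u} [CommRing k] {R : Type u} [CommRing R] [Algebra k R]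

/-- An element as a global function. -/
abbrev gl {C : Type u} [CommRing C] (c : C) : Γ(Spec (CommRingCat.of C), ⊤) :=
  (Scheme.ΓSpecIso (CommRingCat.of C)).inv c

theorem appTop_pt {C D : Type u} [CommRing C] [CommRing D] [Algebra k C] [Algebra k D] (φ : C →ₐ[k] D) (c : C) :
    (CoactBr.pt φ).left.appTop (gl c) = gl (φ c) :=
  (ConcreteCategory.congr_hom (Scheme.ΓSpecIso_inv_naturality (CommRingCat.ofHom φ.toRingHom)) c).symm

/-- The point `X` of the affine line. -/
def bX (k : Type u) [CommRing k] (R : Type u) [CommRing R] [Algebra k R] :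
    CoactBr.sp k R[X] ⟶ Magnet.AMonS (Spec (CommRingCat.of k)) NN :=
  (sc_surj (T := CoactBr.sp k R[X]) (gl (X : R[X]))).choose

theorem sc_bX : sc (bX k R) = gl (X : R[X]) :=
  (sc_surj (T := CoactBr.sp k R[X]) (gl (X : R[X]))).choose_spec

/-- `Spec R[X] → A¹ × Spec R`. -/
def toLine (k : Type u) [CommRing k] (R : Type u) [CommRing R] [Algebra k R] :
    CoactBr.sp k R[X] ⟶ Magnet.AMonS (Spec (CommRingCat.of k)) NN ⊗ CoactBr.sp k R :=
  lift (bX k R) (CoactBr.pt (CAlgHom : R →ₐ[k] R[X]))

instance isIso_toLine : IsIso (toLine k R) := by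
  let P := Magnet.AMonS (Spec (CommRingCat.of k)) NN ⊗ CoactBr.sp k R
  let φ : R[X] →+* Γ(P.left, ⊤) := eval₂RingHom (DiagGL.ev (T := P) (snd _ _)) (sc (fst (Magnet.AMonS (Spec (CommRingCat.of k)) NN) (CoactBr.sp k R)))
  have hφ : ∀ r, φ (algebraMap k R[X] r) = DiagGL.alg P r := by
    intro r
    rw [IsScalarTower.algebraMap_apply k R R[X], Polynomial.algebraMap_eq]
    simp only [φ, coe_eval₂RingHom, eval₂_C]
    exact DiagGL.ev_algebraMap (T := P) _ r
  let ψ : P ⟶ CoactBr.sp k R[X] := DiagGL.mk φ hφ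
  have hψ : ∀ f, DiagGL.ev ψ f = φ f := fun f => by rw [DiagGL.ev_mk]
  have hC : ∀ r, DiagGL.ev (CoactBr.pt (CAlgHom : R →ₐ[k] R[X])) r = gl (C r) := fun r =>
    DiagGL.ev_pt _ r
  refine ⟨ψ, DiagGL.ev_injective fun f => ?_, ?_⟩
  · rw [DiagGL.ev_comp, hψ]
    show ((toLine k R).left.appTop.hom.comp φ) f = gl f
    refine RingHom.congr_fun (g := (Scheme.ΓSpecIso (CommRingCat.of R[X])).inv.hom) (Polynomial.ringHom_ext (fun r => ?_) ?_) f
    · show (toLine k R).left.appTop (φ (C r)) = gl (C r)
      rw [show φ (C r) = DiagGL.ev (T := P) (snd _ _) r from eval₂_C _ _]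
      exact ((DiagGL.ev_comp (toLine k R) _ r).symm.trans (by rw [toLine, lift_snd])).trans (hC r)
    · show (toLine k R).left.appTop (φ X) = gl X
      rw [show φ X = sc (fst _ _) from eval₂_X _ _]
      exact ((sc_nat (toLine k R) _).symm.trans (by rw [toLine, lift_fst])).trans sc_bX
  · apply CartesianMonoidalCategory.hom_ext
    · rw [Category.assoc, toLine, lift_fst, Category.id_comp]
      refine sc_inj ?_
      rw [sc_nat, sc_bX]
      exact (hψ X).trans (eval₂_X _ _)
    · rw [Category.assoc, toLine, lift_snd, Category.id_comp]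
      refine DiagGL.ev_injective fun r => ?_
      rw [DiagGL.ev_comp, hC]
      exact (hψ (C r)).trans (eval₂_C _ _)

variable {Y : Over (Spec (CommRingCat.of k))}

/-- The chart of `A¹ × Y` over an affine chart of `Y`. -/
def chart (j : CoactBr.sp k R ⟶ Y) : CoactBr.sp k R[X] ⟶ Magnet.AMonS (Spec (CommRingCat.of k)) NN ⊗ Y :=
  lift (bX k R) (CoactBr.pt (CAlgHom : R →ₐ[k] R[X]) ≫ j)

theorem chart_eq (j : CoactBr.sp k R ⟶ Y) : chart j = toLine k R ≫ (_ ◁ j) := by
  rw [toLine, lift_whiskerLeft, chart]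

theorem isOpenImmersion_chart (j : CoactBr.sp k R ⟶ Y) [IsOpenImmersion j.left] :
    IsOpenImmersion (chart j).left := by
  haveI : IsOpenImmersion (Magnet.AMonS (Spec (CommRingCat.of k)) NN ◁ j).left := by
    have h := isPullback_whiskerLeft (Magnet.AMonS (Spec (CommRingCat.of k)) NN) j
    first
      | exact MorphismProperty.of_isPullback (P := @IsOpenImmersion) h inferInstance
      | exact MorphismProperty.of_isPullback (P := @IsOpenImmersion) h.flip inferInstance
  haveI : IsIso (toLine k R).left := inferInstanceAs (IsIso ((Over.forget _).map (toLine k R)))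
  rw [chart_eq, Over.comp_left]
  infer_instance

theorem pt_map_chart {R' : Type u} [CommRing R'] [Algebra k R'] (f : R →ₐ[k] R') (j : CoactBr.sp k R ⟶ Y) :
    CoactBr.pt (Polynomial.mapAlgHom f) ≫ chart j = chart (CoactBr.pt f ≫ j) := by
  apply CartesianMonoidalCategory.hom_ext
  · rw [Category.assoc, chart, chart, lift_fst, lift_fst]
    refine sc_inj ?_
    rw [sc_nat, sc_bX, sc_bX, appTop_pt]
    exact congrArg gl (Polynomial.map_X _)
  · rw [Category.assoc, chart, chart, lift_snd, lift_snd, ← Category.assoc, ← Category.assoc,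
      ← CoactBr.pt_comp, ← CoactBr.pt_comp]
    congr 2
    exact AlgHom.ext fun r => by simp [CAlgHom]

/-- Evaluation at the origin. -/
abbrev evalZero (k : Type u) [CommRing k] (R : Type u) [CommRing R] [Algebra k R] : R[X] →ₐ[k] R :=
  (Polynomial.aeval (0 : R)).restrictScalars k

theorem evalZero_chart (j : CoactBr.sp k R ⟶ Y) :
    CoactBr.pt (evalZero k R) ≫ chart j = j ≫ lift (orig Y) (𝟙 Y) := by
  apply CartesianMonoidalCategory.hom_ext
  · rw [Category.assoc, Category.assoc, chart, lift_fst, lift_fst, comp_orig]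
    refine sc_inj ?_
    rw [sc_nat, sc_bX, sc_orig, appTop_pt]
    simp [evalZero, gl]
    rfl
  · rw [Category.assoc, Category.assoc, chart, lift_snd, lift_snd, Category.comp_id, ← Category.assoc,
      ← CoactBr.pt_comp]
    refine Eq.trans ?_ (Category.id_comp j)
    rw [← CoactBr.pt_id]
    congr 2
    exact AlgHom.ext fun r => by simp [evalZero, CAlgHom]

end Chart

/-- Two morphisms out of a basic open `D(h)` of the affine line over `R` into an affine open, with `h` invertible
along the origin, agree if they agree on all infinitesimal neighbourhoods of the origin. -/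
theorem eq_of_formally_eq {R : Type u} [CommRing R] {X' : Scheme.{u}}
    (u v : Spec (CommRingCat.of R[X]) ⟶ X') {U : X'.Opens} (hU : IsAffineOpen U) (h : R[X])
    (hu : ∀ p, p ∈ PrimeSpectrum.basicOpen h → u p ∈ U)
    (hv : ∀ p, p ∈ PrimeSpectrum.basicOpen h → v p ∈ U)
    (h0 : IsUnit (h.coeff 0))
    (hn : ∀ n : ℕ, Spec.map (CommRingCat.ofHom (Ideal.Quotient.mk (Ideal.span {(X : R[X]) ^ (n + 1)}))) ≫ u =
      Spec.map (CommRingCat.ofHom (Ideal.Quotient.mk (Ideal.span {(X : R[X]) ^ (n + 1)}))) ≫ v) :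
    Spec.map (CommRingCat.ofHom (algebraMap R[X] (Localization.Away h))) ≫ u =
      Spec.map (CommRingCat.ofHom (algebraMap R[X] (Localization.Away h))) ≫ v := by
  let jm := Spec.map (CommRingCat.ofHom (algebraMap R[X] (Localization.Away h)))
  have hι : ∀ p, jm p ∈ PrimeSpectrum.basicOpen h := by
    intro p
    have := (PrimeSpectrum.localization_away_comap_range (Localization.Away h) h).le ⟨p, rfl⟩
    exact this
  haveI : IsAffine U.toScheme := hU
  let u' := IsOpenImmersion.lift U.ι (jm ≫ u) (by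
    rw [U.range_ι]
    rintro _ ⟨p, rfl⟩
    exact hu _ (hι p))
  let v' := IsOpenImmersion.lift U.ι (jm ≫ v) (by
    rw [U.range_ι]
    rintro _ ⟨p, rfl⟩
    exact hv _ (hι p))
  suffices u' = v' by
    exact ((IsOpenImmersion.lift_fac U.ι (jm ≫ u) _).symm.trans (congrArg (· ≫ U.ι) this)).trans
      (IsOpenImmersion.lift_fac U.ι (jm ≫ v) _)
  rw [← cancel_mono U.toScheme.isoSpec.hom]
  obtain ⟨φ, hφ⟩ : ∃ φ, Spec.map φ = u' ≫ U.toScheme.isoSpec.hom := ⟨_, Spec.map_preimage _⟩
  obtain ⟨χ, hχ⟩ : ∃ χ, Spec.map χ = v' ≫ U.toScheme.isoSpec.hom := ⟨_, Spec.map_preimage _⟩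
  rw [← hφ, ← hχ]
  congr 1
  have key : ∀ n : ℕ, ∃ ψ : Localization.Away h →+* R[X] ⧸ Ideal.span {(X : R[X]) ^ (n + 1)},
      ψ.comp (algebraMap R[X] (Localization.Away h)) = Ideal.Quotient.mk _ := by
    intro n
    have hnil : IsNilpotent (Ideal.Quotient.mk (Ideal.span {(X : R[X]) ^ (n + 1)}) (h - C (h.coeff 0))) := by
      refine ⟨n + 1, ?_⟩
      rw [← map_pow, Ideal.Quotient.eq_zero_iff_mem, Ideal.mem_span_singleton]
      refine pow_dvd_pow_of_dvd (Polynomial.X_dvd_iff.2 ?_) _
      simp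
    have hunit : IsUnit (Ideal.Quotient.mk (Ideal.span {(X : R[X]) ^ (n + 1)}) h) := by
      have h1 : IsUnit (Ideal.Quotient.mk (Ideal.span {(X : R[X]) ^ (n + 1)}) (C (h.coeff 0))) :=
        (h0.map C).map _
      have h2 := hnil.isUnit_add_left_of_commute h1 (Commute.all _ _)
      rw [← map_add] at h2
      convert h2 using 2
      ring
    exact ⟨IsLocalization.Away.lift h hunit, IsLocalization.Away.lift_comp h hunit⟩
  choose ψ hψ using key
  have hagree : ∀ n, φ ≫ CommRingCat.ofHom (ψ n) = χ ≫ CommRingCat.ofHom (ψ n) := by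
    intro n
    apply Spec.map_injective
    rw [Spec.map_comp, Spec.map_comp, hφ, hχ]
    simp only [← Category.assoc]
    congr 1
    rw [← cancel_mono U.ι, Category.assoc, Category.assoc, IsOpenImmersion.lift_fac, IsOpenImmersion.lift_fac,
      ← Category.assoc, ← Category.assoc, ← Spec.map_comp, ← CommRingCat.ofHom_comp, hψ]
    exact hn n
  refine CommRingCat.hom_ext (RingHom.ext fun a => ?_)
  rw [← sub_eq_zero]
  obtain ⟨⟨g, ⟨_, m, rfl⟩⟩, hd⟩ := IsLocalization.surj (Submonoid.powers h) (φ.hom a - χ.hom a)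
  have hg : g = 0 := by
    refine Polynomial.ext fun n => ?_
    have h1 : ψ n (φ.hom a - χ.hom a) = 0 := by
      rw [map_sub, sub_eq_zero]
      exact ConcreteCategory.congr_hom (hagree n) a
    have h2 := congrArg (ψ n) hd
    rw [map_mul, h1, zero_mul, ← RingHom.comp_apply, hψ] at h2
    rw [Polynomial.coeff_zero]
    exact Polynomial.X_pow_dvd_iff.1 (Ideal.mem_span_singleton.1
      (Ideal.Quotient.eq_zero_iff_mem.1 h2.symm)) n (Nat.lt_succ_self n)
  rw [hg, map_zero] at hd
  exact (IsUnit.mul_left_eq_zero (IsLocalization.map_units (Localization.Away h) (⟨h ^ m, m, rfl⟩ : Submonoid.powers h))).1 hd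

end Groth.Agent.Magnet16
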