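import Groth.Prelude.Def_Magnet3
import Groth.Prelude.Def_ActBC

/-! Equivariant maps after iterated base change. -/

universe u

open CategoryTheory CategoryTheory.Limits MonoidalCategory CartesianMonoidalCategory MonObj AlgebraicGeometry Opposite

set_option autoImplicit false
set_option linter.style.haveILetI false
set_option backward.isDefEq.respectTransparency false
set_option backward.isDefEq.respectTransparency.types false

namespace Groth.Agent.Magnet16

variable {S : Scheme.{u}} {A B X : Over S} [MonObj A] (T : Over S) (T'' : Over T.left)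

/-- `(B ×_S T) ×_T T'' ≅ B ×_S T''`, over `S`. -/
noncomputable def tensorBcIso (B : Over S) :
    (Over.map T.hom).obj (Red.bc T.hom B ⊗ T'') ≅ B ⊗ (Over.map T.hom).obj T'' :=
  Over.isoMk (pullbackLeftPullbackSndIso B.hom T.hom T''.hom) (by
    change (pullbackLeftPullbackSndIso B.hom T.hom T''.hom).hom ≫ pullback.fst B.hom (T''.hom ≫ T.hom) ≫ B.hom =
      (pullback.fst (pullback.snd B.hom T.hom) T''.hom ≫ pullback.snd B.hom T.hom) ≫ T.hom
    rw [pullbackLeftPullbackSndIso_hom_fst_assoc, Category.assoc, ← pullback.condition])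

theorem tensorBcIso_hom_fst (B : Over S) : (tensorBcIso T T'' B).hom ≫ fst B _ =
    (Over.map T.hom).map (fst (Red.bc T.hom B) T'') ≫ (Over.mapPullbackAdj T.hom).counit.app B := by
  ext : 1
  exact pullbackLeftPullbackSndIso_hom_fst _ _ _

theorem tensorBcIso_hom_snd (B : Over S) : (tensorBcIso T T'' B).hom ≫ snd B _ =
    (Over.map T.hom).map (snd (Red.bc T.hom B) T'') := by
  ext : 1
  exact pullbackLeftPullbackSndIso_hom_snd _ _ _

theorem map_lift_tensorBcIso (U : Over T.left) (y : (Over.map T.hom).obj U ⟶ B) (z : U ⟶ T'') :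
    (Over.map T.hom).map (lift ((Over.mapPullbackAdj T.hom).homEquiv U B y) z) ≫ (tensorBcIso T T'' B).hom =
      lift y ((Over.map T.hom).map z) := by
  apply CartesianMonoidalCategory.hom_ext
  · rw [lift_fst, Category.assoc, tensorBcIso_hom_fst, ← Category.assoc, ← Functor.map_comp, lift_fst,
      ← Adjunction.homEquiv_counit, Equiv.symm_apply_apply]
  · rw [lift_snd, Category.assoc, tensorBcIso_hom_snd, ← Functor.map_comp, lift_snd]

variable (ρ : Magnet.MonAct A B) (a : Magnet.MonAct A X)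

/-- The transported map. -/
noncomputable def bcPush (φ : B ⊗ (Over.map T.hom).obj T'' ⟶ X) : Red.bc T.hom B ⊗ T'' ⟶ Red.bc T.hom X :=
  (Over.mapPullbackAdj T.hom).homEquiv _ _ ((tensorBcIso T T'' B).hom ≫ φ)

theorem lift_comp_bcPush (φ : B ⊗ (Over.map T.hom).obj T'' ⟶ X) (U : Over T.left)
    (y : (Over.map T.hom).obj U ⟶ B) (z : U ⟶ T'') :
    lift ((Over.mapPullbackAdj T.hom).homEquiv U B y) z ≫ bcPush T T'' φ =
      (Over.mapPullbackAdj T.hom).homEquiv U X (lift y ((Over.map T.hom).map z) ≫ φ) := by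
  apply ((Over.mapPullbackAdj T.hom).homEquiv U X).symm.injective
  rw [Equiv.symm_apply_apply, Adjunction.homEquiv_naturality_left_symm, bcPush, Equiv.symm_apply_apply,
    ← Category.assoc, map_lift_tensorBcIso]

theorem isEquivariant_bcPush_iff (φ : B ⊗ (Over.map T.hom).obj T'' ⟶ X) :
    Magnet.MonAct.IsEquivariant ((ρ.bc T.hom).prod (Magnet.MonAct.trivial _ T'')) (a.bc T.hom) (bcPush T T'' φ) ↔
      Magnet.MonAct.IsEquivariant (ρ.prod (Magnet.MonAct.trivial A ((Over.map T.hom).obj T''))) a φ := by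
  rw [Magnet.MonAct.mem_eqvHom_iff, Magnet.MonAct.mem_eqvHom_iff]
  let adj := Over.mapPullbackAdj T.hom
  constructor
  · intro h T' g b t
    let U : Over T.left := Over.mk (t.left ≫ T''.hom)
    let e : (Over.map T.hom).obj U ≅ T' := Over.isoMk (Iso.refl _) (by
      change 𝟙 _ ≫ T'.hom = (t.left ≫ T''.hom) ≫ T.hom
      rw [Category.id_comp, Category.assoc]
      exact (Over.w t).symm)
    let z : U ⟶ T'' := Over.homMk t.left rfl
    have hz : (Over.map T.hom).map z = e.hom ≫ t := by ext; exact (Category.id_comp t.left).symm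
    have h1 := h U (adj.homEquiv _ A (e.hom ≫ g)) (adj.homEquiv _ B (e.hom ≫ b)) z
    rw [Magnet.MonAct.lift_homEquiv_bc_act, lift_comp_bcPush, lift_comp_bcPush, Magnet.MonAct.lift_homEquiv_bc_act,
      hz, ← comp_lift, Category.assoc, ← comp_lift, Category.assoc, ← comp_lift, Category.assoc, ← comp_lift,
      Category.assoc] at h1
    have h2 := (adj.homEquiv U X).injective h1
    rwa [cancel_epi] at h2
  · intro h U g' b' z
    obtain ⟨g, rfl⟩ := (adj.homEquiv U A).surjective g'
    obtain ⟨b, rfl⟩ := (adj.homEquiv U B).surjective b'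
    rw [Magnet.MonAct.lift_homEquiv_bc_act, lift_comp_bcPush, lift_comp_bcPush, Magnet.MonAct.lift_homEquiv_bc_act,
      h _ g b ((Over.map T.hom).map z)]

theorem bcPush_symm (ψ : Red.bc T.hom B ⊗ T'' ⟶ Red.bc T.hom X) :
    bcPush T T'' ((tensorBcIso T T'' B).inv ≫ ((Over.mapPullbackAdj T.hom).homEquiv _ _).symm ψ) = ψ := by
  unfold bcPush
  rw [Iso.hom_inv_id_assoc]
  exact Equiv.apply_symm_apply _ _

/-- The value at `T''` of the functor of equivariant maps after base change to `T`. -/
noncomputable def eqvHomBcEquiv :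
    (Magnet.MonAct.eqvHom ρ a).obj (op ((Over.map T.hom).obj T'')) ≃
      (Magnet.MonAct.eqvHom (ρ.bc T.hom) (a.bc T.hom)).obj (op T'') where
  toFun φ := ⟨bcPush T T'' φ.1, (isEquivariant_bcPush_iff T T'' ρ a φ.1).2 φ.2⟩
  invFun ψ := ⟨(tensorBcIso T T'' B).inv ≫ ((Over.mapPullbackAdj T.hom).homEquiv _ _).symm ψ.1,
    (isEquivariant_bcPush_iff T T'' ρ a _).1 (by rw [bcPush_symm]; exact ψ.2)⟩
  left_inv φ := Subtype.ext (by
    change (tensorBcIso T T'' B).inv ≫ _ = _
    refine (congrArg _ (Equiv.symm_apply_apply _ ((tensorBcIso T T'' B).hom ≫ φ.1))).trans ?_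
    exact Iso.inv_hom_id_assoc _ _)
  right_inv ψ := Subtype.ext (by
    exact bcPush_symm T T'' ψ.1)

theorem toBc_bcPush (φ : B ⊗ (Over.map T.hom).obj T'' ⟶ X) :
    Magnet.toBc T'' (bcPush T T'' φ) ≫ (ActBC.bcCompIso T''.hom T.hom X rfl).hom =
      (ActBC.bcCompIso T''.hom T.hom B rfl).hom ≫ Magnet.toBc ((Over.map T.hom).obj T'') φ := by
  ext : 1
  refine pullback.hom_ext ?_ ?_
  · rw [Over.comp_left, Over.comp_left, Category.assoc, Category.assoc, ActBC.bcCompIso_hom_left_fst]
    change _ = (ActBC.bcCompIso T''.hom T.hom B rfl).hom.left ≫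
      (Magnet.toBc ((Over.map T.hom).obj T'') φ).left ≫ pullback.fst X.hom ((Over.map T.hom).obj T'').hom
    rw [Magnet.toBc_left_fst]
    have e := Magnet.toBc_left_fst T'' (bcPush T T'' φ)
    refine ((Category.assoc _ _ _).symm.trans (congrArg (· ≫ pullback.fst X.hom T.hom) e)).trans ?_
    rw [bcPush]
    simp [Adjunction.homEquiv_unit, tensorBcIso, ActBC.bcCompIso]
    exact Category.id_comp _
  · exact (Over.w _).trans (Over.w _).symm

end Groth.Agent.Magnet16
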