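import Groth.Prelude.Def_Magnet2
import Groth.Agent.Lib.DiagGL.Points

/-! # Monomial coordinates on diagonalisable monoid schemes over any base -/

set_option autoImplicit false
set_option linter.style.haveILetI false
set_option backward.isDefEq.respectTransparency.types false
universe u

open CategoryTheory MonoidalCategory CartesianMonoidalCategory MonObj AlgebraicGeometry Opposite

noncomputable section

namespace Groth.Agent.Magnet16

open DiagGL (alg ev)

variable (R : Type u) [CommRing R] {M N : Type} [AddCommMonoid M] [AddCommMonoid N]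

section Affine

variable {T T' : Over (Spec (CommRingCat.of R))}

/-- The monomial coordinates of a point of `A(M)_R`. -/
def chA (x : T ⟶ Magnet.AMon R M) : Multiplicative M →* Γ(T.left, ⊤) :=
  (ev (T := T) (A := MonoidAlgebra R (Multiplicative M)) x : _ →* _).comp (MonoidAlgebra.of R (Multiplicative M))

theorem chA_nat (t : T' ⟶ T) (x : T ⟶ Magnet.AMon R M) (a : Multiplicative M) :
    chA R (t ≫ x) a = t.left.appTop (chA R x a) :=
  DiagGL.ev_comp (A := MonoidAlgebra R (Multiplicative M)) t x _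

theorem chA_mul (x y : T ⟶ Magnet.AMon R M) (a : Multiplicative M) :
    chA R (x * y) a = chA R x a * chA R y a :=
  DiagGL.ev_mul_glike (T := T) (A := MonoidAlgebra R (Multiplicative M)) x y (by simp)

theorem chA_inj {x y : T ⟶ Magnet.AMon R M} (h : ∀ a, chA R x a = chA R y a) : x = y := by
  letI := (alg T).toAlgebra
  refine DiagGL.ev_injective (A := MonoidAlgebra R (Multiplicative M)) fun a => ?_
  refine DFunLike.congr_fun (?_ : (⟨ev (T := T) (A := MonoidAlgebra R (Multiplicative M)) x,
      DiagGL.ev_algebraMap _⟩ : MonoidAlgebra R (Multiplicative M) →ₐ[R] Γ(T.left, ⊤)) =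
    ⟨ev (T := T) (A := MonoidAlgebra R (Multiplicative M)) y, DiagGL.ev_algebraMap _⟩) a
  exact (MonoidAlgebra.lift R Γ(T.left, ⊤) (Multiplicative M)).symm.injective (MonoidHom.ext h)

theorem chA_surj (c : Multiplicative M →* Γ(T.left, ⊤)) : ∃ x : T ⟶ Magnet.AMon R M, chA R x = c := by
  letI := (alg T).toAlgebra
  let χ := MonoidAlgebra.lift R Γ(T.left, ⊤) (Multiplicative M) c
  refine ⟨DiagGL.mk χ.toRingHom fun r => χ.commutes r, ?_⟩
  refine MonoidHom.ext fun a => ?_
  show ev (T := T) (A := MonoidAlgebra R (Multiplicative M)) (DiagGL.mk χ.toRingHom fun r => χ.commutes r) _ = _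
  rw [DiagGL.ev_mk]
  exact MonoidAlgebra.lift_of c a

theorem chA_map (f : N →+ M) (x : T ⟶ Magnet.AMon R M) (n : N) :
    chA R (x ≫ Magnet.AMon.map R f) (Multiplicative.ofAdd n) = chA R x (Multiplicative.ofAdd (f n)) := by
  let φ : MonoidAlgebra R (Multiplicative N) →ₐ[R] MonoidAlgebra R (Multiplicative M) :=
    (MonoidAlgebra.mapDomainBialgHom R (AddMonoidHom.toMultiplicative f)).toAlgHom
  have e : Magnet.AMon.map R f = CoactBr.pt φ := rfl
  show ev (T := T) (A := MonoidAlgebra R (Multiplicative N)) (x ≫ Magnet.AMon.map R f) _ = _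
  rw [DiagGL.ev_comp, e, DiagGL.ev_pt]
  show (x.left.appTop).hom _ = ev (T := T) (A := MonoidAlgebra R (Multiplicative M)) x _
  simp [φ, ev, DiagGL.lft]
  rfl

end Affine

variable {S : Scheme.{u}} {T T' : Over S}

/-- The point of `A(M)` over the absolute base. -/
def abs (x : T ⟶ Magnet.AMonS S M) :
    (Over.map (Limits.IsTerminal.from specULiftZIsTerminal S)).obj T ⟶ Magnet.AMon (ULift.{u} ℤ) M :=
  ((Over.mapPullbackAdj (Limits.IsTerminal.from specULiftZIsTerminal S)).homEquiv T _).symm x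

theorem abs_mul (x y : T ⟶ Magnet.AMonS S M) : abs (x * y) = abs x * abs y := by
  obtain ⟨x, rfl⟩ := ((Over.mapPullbackAdj (Limits.IsTerminal.from specULiftZIsTerminal S)).homEquiv T
    (Magnet.AMon (ULift.{u} ℤ) M)).surjective x
  obtain ⟨y, rfl⟩ := ((Over.mapPullbackAdj (Limits.IsTerminal.from specULiftZIsTerminal S)).homEquiv T
    (Magnet.AMon (ULift.{u} ℤ) M)).surjective y
  simp only [abs, Equiv.symm_apply_apply]
  rw [Equiv.symm_apply_eq]
  simp only [Adjunction.homEquiv_unit]
  exact ((congrArg _ (Functor.map_mul _ x y)).trans (MonObj.comp_mul _ _ _)).symm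

/-- The monomial coordinates of a point of `A(M)_S`. -/
def chS (x : T ⟶ Magnet.AMonS S M) : Multiplicative M →* Γ(T.left, ⊤) := chA (ULift.{u} ℤ) (abs x)

theorem chS_nat (t : T' ⟶ T) (x : T ⟶ Magnet.AMonS S M) (a : Multiplicative M) :
    chS (t ≫ x) a = t.left.appTop (chS x a) := by
  rw [chS, abs, Adjunction.homEquiv_naturality_left_symm, chA_nat]
  rfl

theorem chS_mul (x y : T ⟶ Magnet.AMonS S M) (a : Multiplicative M) : chS (x * y) a = chS x a * chS y a := by
  rw [chS, abs_mul, chA_mul]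
  rfl

theorem chS_pow (x : T ⟶ Magnet.AMonS S M) (n : ℕ) (a : Multiplicative M) :
    chS (x ^ (n + 1)) a = chS x a ^ (n + 1) := by
  induction n with
  | zero => simp
  | succ n ih => rw [pow_succ x (n + 1), chS_mul, ih, ← pow_succ]

theorem chS_inj {x y : T ⟶ Magnet.AMonS S M} (h : ∀ a, chS x a = chS y a) : x = y :=
  ((Over.mapPullbackAdj (Limits.IsTerminal.from specULiftZIsTerminal S)).homEquiv T _).symm.injective
    (chA_inj (ULift.{u} ℤ) h)

theorem chS_surj (c : Multiplicative M →* Γ(T.left, ⊤)) : ∃ x : T ⟶ Magnet.AMonS S M, chS x = c := by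
  obtain ⟨x, hx⟩ := chA_surj (ULift.{u} ℤ)
    (T := (Over.map (Limits.IsTerminal.from specULiftZIsTerminal S)).obj T) c
  obtain ⟨y, rfl⟩ := ((Over.mapPullbackAdj (Limits.IsTerminal.from specULiftZIsTerminal S)).homEquiv T
    _).symm.surjective x
  exact ⟨y, hx⟩

theorem chS_map (f : N →+ M) (x : T ⟶ Magnet.AMonS S M) (n : N) :
    chS (x ≫ Magnet.AMonS.map S f) (Multiplicative.ofAdd n) = chS x (Multiplicative.ofAdd (f n)) := by
  rw [chS, abs, Magnet.AMonS.map, Adjunction.homEquiv_naturality_right_symm]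
  exact chA_map (ULift.{u} ℤ) f _ n

theorem chS_one (a : Multiplicative M) : chS (1 : T ⟶ Magnet.AMonS S M) a = 1 := by
  obtain ⟨y, hy⟩ := chS_surj (S := S) (M := M) (T := T) 1
  have h : (1 : T ⟶ Magnet.AMonS S M) = y := by
    refine chS_inj fun b => ?_
    have h' := chS_mul (1 : T ⟶ Magnet.AMonS S M) y b
    rw [_root_.one_mul, hy] at h'
    rw [hy]
    simpa using h'.symm
  rw [h, hy]
  rfl

end Groth.Agent.Magnet16
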