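import Groth.Prelude.Def_Magnet2
import Groth.Prelude.Def_Magnet3
import Groth.Agent.Lib.Magnet16.Dense
import Groth.Agent.Lib.Magnet16.Thickening
import Mathlib.CategoryTheory.Limits.FunctorCategory.Shapes.Pullbacks
import Mathlib.CategoryTheory.Limits.Types.Pullbacks

/-! Morphisms out of `A(N) × T` are determined on `A(M) × T` for separated targets. -/

universe u

open CategoryTheory CategoryTheory.Limits MonoidalCategory CartesianMonoidalCategory MonObj AlgebraicGeometry
open scoped TensorProduct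

set_option autoImplicit false
set_option linter.style.haveILetI false
set_option backward.isDefEq.respectTransparency false
set_option backward.isDefEq.respectTransparency.types false

namespace Groth.Agent.Magnet16

/-- The schematic density of `A(M) × T` in `A(N) × T`. -/
theorem schDom_of_squares {k : Type u} [CommRing k] (hk : IsTerminal (Spec (CommRingCat.of k))) {N M : Type}
    [CommMonoid N] [CommMonoid M] (f : N →* M) (hf : Function.Injective f) {PN PM T : Scheme.{u}}
    {qN : PN ⟶ Spec (CommRingCat.of (MonoidAlgebra k N))} {pN : PN ⟶ T}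
    {qM : PM ⟶ Spec (CommRingCat.of (MonoidAlgebra k M))} {pM : PM ⟶ T} {b : T ⟶ Spec (CommRingCat.of k)}
    (HN : IsPullback qN pN (Spec.map (CommRingCat.ofHom (algebraMap k (MonoidAlgebra k N)))) b)
    (HM : IsPullback qM pM (Spec.map (CommRingCat.ofHom (algebraMap k (MonoidAlgebra k M)))) b)
    (Ψ : PM ⟶ PN)
    (hq : Ψ ≫ qN = qM ≫ Spec.map (CommRingCat.ofHom (MonoidAlgebra.mapDomainAlgHom k k f).toRingHom))
    (hp : Ψ ≫ pN = pM) : IsSchemeTheoreticallyDominant Ψ := by
  let 𝒰 := T.affineCover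
  refine ⟨(Scheme.isIso_subschemeι_iff_eq_bot Ψ.ker).1 ?_⟩
  refine IsZariskiLocalAtTarget.of_openCover (P := MorphismProperty.isomorphisms Scheme)
    (Precoverage.ZeroHypercover.pullback₁ pN 𝒰) fun i => ?_
  obtain ⟨R, ⟨ρ⟩⟩ : ∃ R : CommRingCat.{u}, Nonempty (Spec R ≅ 𝒰.X i) := ⟨_, ⟨(𝒰.X i).isoSpec.symm⟩⟩
  let t : Spec R ⟶ T := ρ.hom ≫ 𝒰.f i
  letI : Algebra k R := (Spec.preimage (t ≫ b)).hom.toAlgebra
  have hsq : ∀ (P : Type) [CommMonoid P], IsPullback
      (Spec.map (CommRingCat.ofHom (Algebra.TensorProduct.includeLeftRingHom :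
        MonoidAlgebra k P →+* MonoidAlgebra k P ⊗[k] R)))
      (Spec.map (CommRingCat.ofHom
        (Algebra.TensorProduct.includeRight (R := k) (A := MonoidAlgebra k P) (B := R)).toRingHom))
      (Spec.map (CommRingCat.ofHom (algebraMap k (MonoidAlgebra k P)))) (t ≫ b) := fun P _ =>
    IsPullback.of_iso (IsPullback.of_hasPullback
      (Spec.map (CommRingCat.ofHom (algebraMap k (MonoidAlgebra k P))))
      (Spec.map (CommRingCat.ofHom (algebraMap k R)))) (pullbackSpecIso _ _ _) (Iso.refl _) (Iso.refl _) (Iso.refl _)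
      (by rw [Iso.refl_hom, Category.comp_id]; exact (pullbackSpecIso_hom_fst _ _ _).symm)
      (by rw [Iso.refl_hom, Category.comp_id]; exact (pullbackSpecIso_hom_snd _ _ _).symm)
      (hk.hom_ext _ _) (hk.hom_ext _ _)
  let κN := HN.lift _ (_ ≫ t) ((hsq N).w.trans (Category.assoc _ _ _).symm)
  let κM := HM.lift _ (_ ≫ t) ((hsq M).w.trans (Category.assoc _ _ _).symm)
  let F := MonoidAlgebra.mapDomainAlgHom k k f
  let g : Spec (CommRingCat.of (MonoidAlgebra k M ⊗[k] R)) ⟶ Spec (CommRingCat.of (MonoidAlgebra k N ⊗[k] R)) :=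
    Spec.map (CommRingCat.ofHom (Algebra.TensorProduct.map F (AlgHom.id k R)).toRingHom)
  haveI : IsSchemeTheoreticallyDominant g := AlgSpace.schDom_SpecMap _ (injective_map_mapDomain f hf)
  have hg : g ≫ κN = κM ≫ Ψ := by
    apply HN.hom_ext
    · simp only [κN, κM, Category.assoc, IsPullback.lift_fst, hq]
      rw [IsPullback.lift_fst_assoc, ← Spec.map_comp, ← Spec.map_comp]
      congr 1
    · simp only [κN, κM, Category.assoc, IsPullback.lift_snd, hp]
      rw [← Category.assoc, ← Spec.map_comp]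
      congr 2
      ext x
      exact (Algebra.TensorProduct.map_tmul F (AlgHom.id k R) 1 x).trans (by rw [map_one]; rfl)
  have hκ : IsPullback κN (Spec.map (CommRingCat.ofHom
      (Algebra.TensorProduct.includeRight (R := k) (A := MonoidAlgebra k N) (B := R)).toRingHom)) pN t :=
    IsPullback.of_right (by simpa [κN] using hsq N) (HN.lift_snd _ _ _) HN
  have e' : IsPullback (pullback.fst pN (𝒰.f i)) (pullback.snd pN (𝒰.f i) ≫ ρ.inv) pN t :=
    IsPullback.of_iso (IsPullback.of_hasPullback _ _) (Iso.refl _) (Iso.refl _) ρ.symm (Iso.refl _)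
      (by simp) (by simp) (by simp) (by simp [t])
  change IsIso (pullback.snd Ψ.imageι (pullback.fst pN (𝒰.f i)))
  rw [← IsPullback.isoIsPullback_hom_fst _ _ e' hκ]
  have hw : (κM ≫ Ψ.toImage) ≫ Ψ.imageι = g ≫ κN := by rw [Category.assoc, Ψ.toImage_imageι, hg]
  haveI : IsSchemeTheoreticallyDominant (pullback.lift _ _ hw ≫ pullback.snd Ψ.imageι κN) := by
    rw [pullback.lift_snd]; infer_instance
  haveI : IsSchemeTheoreticallyDominant (pullback.snd Ψ.imageι κN) :=
    AlgSpace.schDom_of_comp (pullback.lift _ _ hw) _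
  haveI : IsIso (pullback.snd Ψ.imageι κN) :=
    IsClosedImmersion.isIso_iff_ker_eq_bot.2 (pullback.snd Ψ.imageι κN).ker_eq_bot
  let e := (IsPullback.isoIsPullback _ _ e' hκ).hom
  let v : _ ⟶ pullback Ψ.imageι (e ≫ κN) :=
    pullback.lift (e ≫ inv (pullback.snd Ψ.imageι κN) ≫ pullback.fst _ _) (𝟙 _) (by
      rw [Category.assoc, Category.assoc, pullback.condition, IsIso.inv_hom_id_assoc, Category.id_comp])
  haveI : Mono (pullback.snd Ψ.imageι (e ≫ κN)) := inferInstance
  haveI : IsSplitEpi (pullback.snd Ψ.imageι (e ≫ κN)) := IsSplitEpi.mk' ⟨v, pullback.lift_snd _ _ _⟩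
  exact isIso_of_mono_of_isSplitEpi _

/-- `A(M) × T → A(N) × T` is schematically dominant for `N → M` injective. -/
theorem schDom_map_whiskerRight {S : Scheme.{u}} {N M : Type} [AddCommMonoid N] [AddCommMonoid M] (f : N →+ M)
    (hf : Function.Injective f) (T : Over S) :
    IsSchemeTheoreticallyDominant (Magnet.AMonS.map S f ▷ T).left := by
  refine schDom_of_squares (k := ULift.{u} ℤ) specULiftZIsTerminal (AddMonoidHom.toMultiplicative f)
    (fun x y hxy => Multiplicative.toAdd.injective (hf (Multiplicative.ofAdd.injective hxy)))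
    (isPullback_absolute N T) (isPullback_absolute M T) (Magnet.AMonS.map S f ▷ T).left ?_ ?_
  · rw [← Category.assoc, ← Over.comp_left, whiskerRight_fst, Over.comp_left, Category.assoc]
    simp [Magnet.AMonS.map, Magnet.AMon.map_left]
    rfl
  · rw [← Over.comp_left, whiskerRight_snd]

end Groth.Agent.Magnet16

namespace Groth.Agent.Magnet16

/-- Equivariant maps into a closed stable subscheme, when the acting monoid is dense in the source. -/
theorem isPullback_postcomp_evalAt {S : Scheme.{u}} {A B Y Z : Over S} [MonObj A] [MonObj B] (ψ : A ⟶ B) [IsMonHom ψ]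
    (hd : ∀ T : Over S, IsSchemeTheoreticallyDominant (ψ ▷ T).left) (aY : Magnet.MonAct A Y) (aZ : Magnet.MonAct A Z)
    (f : Z ⟶ Y) [IsClosedImmersion f.left] (hf : Magnet.MonAct.IsEquivariant aZ aY f) :
    IsPullback (Magnet.MonAct.eqvHom.postcomp ((Magnet.MonAct.regular B).restrict ψ) f hf)
      (Magnet.MonAct.eqvHom.evalAt ((Magnet.MonAct.regular B).restrict ψ) aZ η[B])
      (Magnet.MonAct.eqvHom.evalAt ((Magnet.MonAct.regular B).restrict ψ) aY η[B]) (yoneda.map f) := by
  haveI : Mono f := (Over.forget _).mono_of_mono_map (show Mono f.left from inferInstance)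
  refine IsPullback.of_forall_isPullback_app fun T => (CategoryTheory.Limits.Types.isPullback_iff _ _ _ _).2 ⟨?_, ?_, ?_⟩
  · ext φ
    change _ ≫ φ.1 ≫ f = (_ ≫ φ.1) ≫ f
    rw [Category.assoc]
  · rintro φ φ' ⟨h, -⟩
    exact Subtype.ext ((cancel_mono f).1 (congrArg Subtype.val h))
  · intro φ z h
    change _ ≫ φ.1 = z ≫ f at h
    have key : (ψ ▷ T.unop) ≫ φ.1 = (lift (fst A T.unop) (snd A T.unop ≫ z) ≫ aZ.act) ≫ f := by
      refine (map_whiskerRight_eqvHom ψ aY φ.1 φ.2).trans ?_
      rw [h, Category.assoc, hf, lift_whiskerLeft_assoc, Category.assoc]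
    haveI := hd T.unop
    have hle : f.left.ker ≤ φ.1.left.ker := by
      rw [← AlgSpace.ker_comp_of_schDom (ψ ▷ T.unop).left φ.1.left, ← Over.comp_left, key, Over.comp_left]
      exact Scheme.Hom.le_ker_comp _ _
    let φ' : B ⊗ T.unop ⟶ Z := Over.homMk (IsClosedImmersion.lift f.left φ.1.left hle) (by
      rw [← Over.w f, ← Category.assoc, IsClosedImmersion.lift_fac, Over.w φ.1])
    have hφ' : φ' ≫ f = φ.1 := by
      ext : 1
      exact IsClosedImmersion.lift_fac _ _ _
    refine ⟨⟨φ', ?_⟩, Subtype.ext hφ', ?_⟩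
    · rw [Magnet.MonAct.mem_eqvHom_iff]
      intro T' g b t
      apply (cancel_mono f).1
      rw [Category.assoc, hφ', Category.assoc, hf, lift_whiskerLeft_assoc, Category.assoc, hφ']
      exact (Magnet.MonAct.mem_eqvHom_iff φ.1).1 φ.2 T' g b t
    · change _ ≫ φ' = z
      apply (cancel_mono f).1
      rw [Category.assoc, hφ']
      exact h

end Groth.Agent.Magnet16
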