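import Groth.Agent.Lib.Magnet16.Orbit
import Mathlib.AlgebraicGeometry.Morphisms.FormallyUnramified

/-! # An equivariant morphism of `A¹`-schemes which is an isomorphism on fixed points and étale near
them is an isomorphism -/

set_option autoImplicit false
set_option linter.style.haveILetI false
set_option backward.isDefEq.respectTransparency.types false
universe u

open CategoryTheory CategoryTheory.Limits MonoidalCategory CartesianMonoidalCategory MonObj AlgebraicGeometry
  Opposite Polynomial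

noncomputable section

namespace Groth.Agent.Magnet16

/-- Two maps which agree at a point and after an unramified morphism agree near the point. -/
theorem mem_agree_of_unramified {Q X Y : Scheme.{u}} (u v : Q ⟶ X) (f : X ⟶ Y) (V : X.Opens)
    [FormallyUnramified (V.ι ≫ f)] [LocallyOfFiniteType (V.ι ≫ f)] (huv : u ≫ f = v ≫ f)
    {K : Type u} [Field K] (z : Spec (CommRingCat.of K) ⟶ Q) (hz : z ≫ u = z ≫ v)
    (hV : ∀ w, u (z w) ∈ V) (w : Spec (CommRingCat.of K)) : z w ∈ agree u v := by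
  let Ω : Q.Opens := u ⁻¹ᵁ V ⊓ v ⁻¹ᵁ V
  have hVv : ∀ w, v (z w) ∈ V := fun w => by
    have h : (z ≫ v) w = (z ≫ u) w := by rw [hz]
    exact (show v (z w) = u (z w) from h) ▸ hV w
  let u' : (Ω : Scheme) ⟶ V := IsOpenImmersion.lift V.ι (Ω.ι ≫ u) (by
    rw [V.range_ι]
    rintro _ ⟨p, rfl⟩
    exact p.2.1)
  let v' : (Ω : Scheme) ⟶ V := IsOpenImmersion.lift V.ι (Ω.ι ≫ v) (by
    rw [V.range_ι]
    rintro _ ⟨p, rfl⟩
    exact p.2.2)
  have hu' : u' ≫ V.ι = Ω.ι ≫ u := IsOpenImmersion.lift_fac _ _ _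
  have hv' : v' ≫ V.ι = Ω.ι ≫ v := IsOpenImmersion.lift_fac _ _ _
  let c : (Ω : Scheme) ⟶ pullback (V.ι ≫ f) (V.ι ≫ f) := pullback.lift u' v' (by
    rw [reassoc_of% hu', reassoc_of% hv', huv])
  haveI : IsOpenImmersion (pullback.diagonal (V.ι ≫ f)) := inferInstance
  have hc₁ : c ≫ pullback.fst _ _ = u' := pullback.lift_fst _ _ _
  have hc₂ : c ≫ pullback.snd _ _ = v' := pullback.lift_snd _ _ _
  let Ω' : (Ω : Scheme).Opens := c ⁻¹ᵁ (pullback.diagonal (V.ι ≫ f)).opensRange
  let l : (Ω' : Scheme) ⟶ V := IsOpenImmersion.lift (pullback.diagonal (V.ι ≫ f)) (Ω'.ι ≫ c) (by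
    rintro _ ⟨p, rfl⟩
    exact p.2)
  have hl : l ≫ pullback.diagonal (V.ι ≫ f) = Ω'.ι ≫ c := IsOpenImmersion.lift_fac _ _ _
  have h₁ : l = Ω'.ι ≫ u' := by
    have := congrArg (fun q => q ≫ pullback.fst _ _) hl
    simpa [hc₁] using this
  have h₂ : l = Ω'.ι ≫ v' := by
    have := congrArg (fun q => q ≫ pullback.snd _ _) hl
    simpa [hc₂] using this
  have hagree : (Ω'.ι ≫ Ω.ι) ≫ u = (Ω'.ι ≫ Ω.ι) ≫ v := by
    rw [Category.assoc, Category.assoc, ← hu', ← hv', ← Category.assoc, ← Category.assoc, ← h₁, h₂]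
  let zΩ : Spec (CommRingCat.of K) ⟶ Ω := IsOpenImmersion.lift Ω.ι z (by
    rw [Ω.range_ι]
    rintro _ ⟨p, rfl⟩
    exact ⟨hV p, hVv p⟩)
  have hzΩ : zΩ ≫ Ω.ι = z := IsOpenImmersion.lift_fac _ _ _
  have hc : zΩ ≫ c = (zΩ ≫ u') ≫ pullback.diagonal (V.ι ≫ f) := by
    apply pullback.hom_ext
    · simp [hc₁]
    · simp only [Category.assoc, hc₂, pullback.diagonal_snd, Category.comp_id]
      rw [← cancel_mono V.ι, Category.assoc, Category.assoc, hu', hv', reassoc_of% hzΩ, reassoc_of% hzΩ, hz]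
  have hmem : zΩ w ∈ Ω' := ⟨u' (zΩ w), (congrArg (fun q => q w) hc).symm⟩
  have := mem_agree u v (Ω'.ι ≫ Ω.ι) hagree ⟨zΩ w, hmem⟩
  have e : (Ω'.ι ≫ Ω.ι) ⟨zΩ w, hmem⟩ = z w := by
    conv_rhs => rw [← hzΩ]
    rfl
  rwa [e] at this

variable {k : Type u} [CommRing k] {X Y : Over (Spec (CommRingCat.of k))}
  (a : Magnet.MonAct (Magnet.AMonS (Spec (CommRingCat.of k)) ℕ) X)
  (b : Magnet.MonAct (Magnet.AMonS (Spec (CommRingCat.of k)) ℕ) Y)
  (f : X ⟶ Y) (hf : Magnet.MonAct.IsEquivariant a b f) (V : X.left.Opens) [Etale (V.ι ≫ f.left)]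
  (hinj : ∀ (T : Over (Spec (CommRingCat.of k))) (p q : T ⟶ X),
    (∀ (T' : Over (Spec (CommRingCat.of k))) (t : T' ⟶ T) (g : T' ⟶ Magnet.AMonS (Spec (CommRingCat.of k)) ℕ),
      lift g (t ≫ p) ≫ a.act = t ≫ p) →
    (∀ (T' : Over (Spec (CommRingCat.of k))) (t : T' ⟶ T) (g : T' ⟶ Magnet.AMonS (Spec (CommRingCat.of k)) ℕ),
      lift g (t ≫ q) ≫ a.act = t ≫ q) →
    p ≫ f = q ≫ f → p = q)
  (hV : ∀ (T : Over (Spec (CommRingCat.of k))) (x : T ⟶ X) (z : T.left),
    (lift (zeroN T) x ≫ a.act).left z ∈ V)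

include hf hinj hV in
theorem mono_of_limit {T : Over (Spec (CommRingCat.of k))} (x₁ x₂ : T ⟶ X) (h : x₁ ≫ f = x₂ ≫ f) : x₁ = x₂ := by
  let S := Spec (CommRingCat.of k)
  let orbit : (T ⟶ X) → (Magnet.AMonS S NN ⊗ T ⟶ X) := fun x => lift (fst _ _ ≫ nu S) (snd _ _ ≫ x) ≫ a.act
  let a' := a.restrict (inclG S)
  have hcomm : Magnet.AMonS.map S NN.subtype ≫ nu S = inclG S := by
    rw [nu, inclG, ← Magnet.AMonS.map_comp]
    rfl
  have hpt : ∀ (x : T ⟶ X) (T' : Over S) (c : T' ⟶ Magnet.AMonS S NN) (t : T' ⟶ T),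
      lift c t ≫ orbit x = lift (c ≫ nu S) (t ≫ x) ≫ a.act := by
    intro x T' c t
    simp only [orbit, comp_lift_assoc, lift_fst_assoc, lift_snd_assoc]
  have heq : ∀ x, Magnet.MonAct.IsEquivariant ((Magnet.subAct S ℤ NN).prod (Magnet.MonAct.trivial _ T)) a' (orbit x) := by
    intro x
    rw [Magnet.MonAct.mem_eqvHom_iff]
    intro T' g c t
    rw [hpt, hpt, Magnet.subAct, Magnet.MonAct.lift_restrict_act, Magnet.MonAct.lift_regular_act,
      Magnet.MonAct.lift_restrict_act, MonObj.mul_comp, Category.assoc, hcomm, a.lift_mul_act]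
  have hof : orbit x₁ ≫ f = orbit x₂ ≫ f := by
    simp only [orbit, Category.assoc]
    rw [Magnet.MonAct.isEquivariant_iff] at hf
    rw [hf, hf, Category.assoc, Category.assoc, h]
  have hζ : ∀ x, lift (orig T) (𝟙 T) ≫ orbit x = lift (zeroN T) x ≫ a.act := by
    intro x
    rw [hpt, Category.id_comp]
    rfl
  have hζeq : lift (orig T) (𝟙 T) ≫ orbit x₁ = lift (orig T) (𝟙 T) ≫ orbit x₂ := by
    rw [hζ, hζ]
    refine hinj T _ _ (fixed_zeroN a x₁) (fixed_zeroN a x₂) ?_
    rw [Magnet.MonAct.isEquivariant_iff] at hf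
    rw [Category.assoc, Category.assoc, hf, hf, h]
  have key : orbit x₁ = orbit x₂ := by
    refine eq_of_agree_orig _ _ a' (heq x₁) (heq x₂) fun y => ?_
    let z : Spec (CommRingCat.of (T.left.residueField y)) ⟶ (Magnet.AMonS S NN ⊗ T).left :=
      T.left.fromSpecResidueField y ≫ (lift (orig T) (𝟙 T)).left
    let w0 : PrimeSpectrum (T.left.residueField y) := ⟨⊥, Ideal.isPrime_bot⟩
    have hy : T.left.fromSpecResidueField y w0 = y := T.left.fromSpecResidueField_apply y w0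
    have := mem_agree_of_unramified (orbit x₁).left (orbit x₂).left f.left V (congrArg CommaMorphism.left hof) z
      (by simp only [z, Category.assoc]; exact congrArg (fun q => _ ≫ q) (congrArg CommaMorphism.left hζeq))
      (fun w => by
        show (lift (orig T) (𝟙 T) ≫ orbit x₁).left (T.left.fromSpecResidueField y w) ∈ V
        rw [hζ]
        exact hV T x₁ _) w0
    change (lift (orig T) (𝟙 T)).left (T.left.fromSpecResidueField y w0) ∈ _ at this
    rwa [hy] at this
  have h1 : ∀ x, lift (1 : T ⟶ Magnet.AMonS S NN) (𝟙 T) ≫ orbit x = x := by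
    intro x
    rw [hpt, MonObj.one_comp, Category.id_comp, a.lift_one_act]
  rw [← h1 x₁, ← h1 x₂, key]

include hf hinj hV in
theorem isIso_of_limit
    (hsurj : ∀ (K : Type u) [Field K] [Algebra k K] (y : CoactBr.sp k K ⟶ Y),
      ∃ x : CoactBr.sp k K ⟶ X, x ≫ f = lift (zeroN _) y ≫ b.act ∧ ∀ z, x.left z ∈ V) : IsIso f := by
  let S := Spec (CommRingCat.of k)
  let VO : Over S := Over.mk (V.ι ≫ X.hom)
  let iV : VO ⟶ X := Over.homMk V.ι rfl
  let Φ := sweep a V
  let p := Φ ≫ f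
  have hp : p = (_ ◁ (iV ≫ f)) ≫ (b.restrict (inclG S)).act := by
    apply Magnet.hom_ext_lift₂
    intro T' g v
    rw [Magnet.MonAct.isEquivariant_iff] at hf
    simp only [p, Φ, sweep, Category.assoc, lift_whiskerLeft_assoc]
    rw [Magnet.MonAct.lift_restrict_act_assoc, hf]
    erw [lift_whiskerLeft_assoc]
    rw [Magnet.MonAct.lift_restrict_act]
    simp only [Category.assoc]
    rfl
  haveI : Etale (iV ≫ f).left := inferInstanceAs (Etale (V.ι ≫ f.left))
  haveI : Etale (Magnet.AMonS S ℤ ◁ (iV ≫ f)).left := by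
    have h := isPullback_whiskerLeft (Magnet.AMonS S ℤ) (iV ≫ f)
    first
      | exact MorphismProperty.of_isPullback (P := @Etale) h inferInstance
      | exact MorphismProperty.of_isPullback (P := @Etale) h.flip inferInstance
  haveI := flat_act (b.restrict (inclG S))
  haveI := lfp_act (b.restrict (inclG S))
  haveI : Flat p.left := by rw [hp, Over.comp_left]; infer_instance
  haveI : LocallyOfFinitePresentation p.left := by rw [hp, Over.comp_left]; infer_instance
  haveI : Surjective Φ.left := surjective_sweep a V fun K _ _ x z => hV _ x z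
  haveI : Surjective f.left := surjective_of_equivariant a b f hf V (V.ι ≫ f.left).isOpenMap hsurj
  haveI : Surjective p.left := by simp only [p, Over.comp_left]; infer_instance
  haveI : EffectiveEpi p.left := by
    rw [← Sieve.effectiveEpimorphic_singleton,
      Presieve.EffectiveEpimorphic.iff_forall_isSheafFor_yoneda]
    intro Z
    exact (GrothendieckTopology.Subcanonical.isSheaf_of_isRepresentable (J := Scheme.fppfTopology) _).isSheafFor _
      (Precoverage.generate_mem_toGrothendieck p.left.singleton_mem_fppfPrecoverage)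
  have hmono : ∀ {T : Scheme.{u}} (u₁ u₂ : T ⟶ X.left), u₁ ≫ f.left = u₂ ≫ f.left → u₁ = u₂ := by
    intro T u₁ u₂ he
    have hw : u₂ ≫ X.hom = u₁ ≫ X.hom := by rw [← Over.w f, ← Category.assoc, ← Category.assoc, he]
    exact congrArg CommaMorphism.left (mono_of_limit a b f hf V hinj hV
      (Over.homMk u₁ rfl : Over.mk (u₁ ≫ X.hom) ⟶ X) (Over.homMk u₂ hw) (Over.OverMorphism.ext he))
  have hdesc : ∀ {T : Scheme.{u}} (g₁ g₂ : T ⟶ _), g₁ ≫ p.left = g₂ ≫ p.left → g₁ ≫ Φ.left = g₂ ≫ Φ.left :=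
    fun g₁ g₂ he => hmono _ _ (by simpa [p] using he)
  let g := EffectiveEpi.desc p.left Φ.left hdesc
  have hg : p.left ≫ g = Φ.left := EffectiveEpi.fac p.left Φ.left hdesc
  have hgf : g ≫ f.left = 𝟙 _ := by
    rw [← cancel_epi p.left, ← Category.assoc, hg, Category.comp_id]
    rfl
  have hfg : f.left ≫ g = 𝟙 _ := hmono _ _ (by rw [Category.assoc, hgf, Category.id_comp, Category.comp_id])
  haveI : IsIso f.left := ⟨g, hfg, hgf⟩
  haveI : IsIso ((Over.forget S).map f) := inferInstanceAs (IsIso f.left)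
  exact isIso_of_reflects_iso f (Over.forget S)

end Groth.Agent.Magnet16
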