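import Groth.Agent.Lib.Magnet16.Formal
import Mathlib.AlgebraicGeometry.Sites.Fpqc
import Mathlib.AlgebraicGeometry.Morphisms.Etale

/-! # Orbits of actions of the multiplicative monoid of the affine line: the limit at the origin -/

set_option autoImplicit false
set_option linter.style.haveILetI false
set_option backward.isDefEq.respectTransparency.types false
universe u

open CategoryTheory CategoryTheory.Limits MonoidalCategory CartesianMonoidalCategory MonObj AlgebraicGeometry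
  Opposite Polynomial

noncomputable section

namespace Groth.Agent.Magnet16

section NatCoord

variable {S : Scheme.{u}} {T T' : Over S}

/-- The generator of `ℕ`. -/
abbrev gN : Multiplicative ℕ := Multiplicative.ofAdd 1

theorem scN_inj {b b' : T ⟶ Magnet.AMonS S ℕ} (h : chS b gN = chS b' gN) : b = b' := by
  refine chS_inj fun a => ?_
  have ha : a = gN ^ Multiplicative.toAdd a := Multiplicative.toAdd.injective (by simp)
  rw [ha, map_pow, map_pow]
  exact congrArg (· ^ _) h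

theorem scN_surj (s : Γ(T.left, ⊤)) : ∃ b : T ⟶ Magnet.AMonS S ℕ, chS b gN = s := by
  obtain ⟨b, hb⟩ := chS_surj (S := S) (M := ℕ) (powersHom Γ(T.left, ⊤) s)
  exact ⟨b, by rw [hb]; simp⟩

/-- `A¹` in its two spellings. -/
def toNN : ℕ →+ NN where
  toFun n := ⟨n, n, by simp⟩
  map_zero' := rfl
  map_add' m n := Subtype.ext (Nat.cast_add m n)

/-- `A(ℕℤ) → A(ℕ)`. -/
abbrev nu (S : Scheme.{u}) : Magnet.AMonS S NN ⟶ Magnet.AMonS S ℕ := Magnet.AMonS.map S toNN

theorem chS_nu (b : T ⟶ Magnet.AMonS S NN) : chS (b ≫ nu S) gN = sc b := by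
  rw [chS_map]
  rfl

/-- `G_m → A¹`. -/
abbrev inclG (S : Scheme.{u}) : Magnet.AMonS S ℤ ⟶ Magnet.AMonS S ℕ := Magnet.AMonS.map S (Nat.castAddMonoidHom ℤ)

/-- The zero of the monoid `A¹`. -/
def zeroN (T : Over S) : T ⟶ Magnet.AMonS S ℕ := orig T ≫ nu S

theorem chS_zeroN (T : Over S) : chS (zeroN T) gN = 0 := by rw [zeroN, chS_nu, sc_orig]

theorem comp_zeroN (t : T' ⟶ T) : t ≫ zeroN T = zeroN T' := by
  rw [zeroN, ← Category.assoc, comp_orig, zeroN]

theorem mul_zeroN (g : T ⟶ Magnet.AMonS S ℕ) : g * zeroN T = zeroN T := by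
  refine scN_inj ?_
  rw [chS_mul, chS_zeroN, mul_zero]

theorem fixed_zeroN {X : Over S} (a : Magnet.MonAct (Magnet.AMonS S ℕ) X) (x : T ⟶ X) :
    ∀ (T' : Over S) (t : T' ⟶ T) (g : T' ⟶ Magnet.AMonS S ℕ),
      lift g (t ≫ lift (zeroN T) x ≫ a.act) ≫ a.act = t ≫ lift (zeroN T) x ≫ a.act := by
  intro T' t g
  rw [comp_lift_assoc, comp_zeroN, ← a.lift_mul_act, mul_zeroN]

theorem lfp_AMonS_int : LocallyOfFinitePresentation (Magnet.AMonS S ℤ).hom := by
  haveI : Monoid.FG (Multiplicative ℤ) := by infer_instance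
  haveI : IsNoetherianRing (ULift.{u} ℤ) := isNoetherianRing_of_ringEquiv ℤ ULift.ringEquiv.symm
  haveI : LocallyOfFinitePresentation (Magnet.AMon (ULift.{u} ℤ) ℤ).hom := by
    show LocallyOfFinitePresentation
      (Spec.map (CommRingCat.ofHom (algebraMap (ULift.{u} ℤ) (MonoidAlgebra (ULift.{u} ℤ) (Multiplicative ℤ)))))
    rw [HasRingHomProperty.Spec_iff (P := @LocallyOfFinitePresentation)]
    show (algebraMap (ULift.{u} ℤ) (MonoidAlgebra (ULift.{u} ℤ) (Multiplicative ℤ))).FinitePresentation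
    rw [RingHom.finitePresentation_algebraMap]
    exact Algebra.FinitePresentation.of_finiteType.1 inferInstance
  exact MorphismProperty.pullback_snd (P := @LocallyOfFinitePresentation) _ _ inferInstance

theorem lfp_act {P : Over S} (α : Magnet.MonAct (Magnet.AMonS S ℤ) P) :
    LocallyOfFinitePresentation α.act.left := by
  let σ : Magnet.AMonS S ℤ ⊗ P ⟶ Magnet.AMonS S ℤ ⊗ P := lift (fst _ _) α.act
  haveI : IsIso σ := by
    refine ⟨lift (fst _ _) (lift (invPt (fst _ _)) (snd _ _) ≫ α.act), ?_, ?_⟩ <;>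
      apply Magnet.hom_ext_lift₂ <;> intro T g p <;> rw [Category.comp_id] <;>
      apply CartesianMonoidalCategory.hom_ext
    · simp only [σ, Category.assoc, lift_fst]
    · simp only [σ, Category.assoc, lift_snd, comp_lift_assoc, comp_invPt, lift_fst]
      rw [← α.lift_mul_act, invPt_mul, α.lift_one_act]
    · simp only [σ, Category.assoc, lift_fst]
    · simp only [σ, Category.assoc, lift_snd, comp_lift_assoc, comp_invPt, lift_fst]
      rw [← α.lift_mul_act, mul_invPt, α.lift_one_act]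
  have e : α.act = σ ≫ snd _ _ := (lift_snd _ _).symm
  haveI := lfp_AMonS_int (S := S)
  haveI : LocallyOfFinitePresentation (snd (Magnet.AMonS S ℤ) P).left :=
    MorphismProperty.pullback_snd (P := @LocallyOfFinitePresentation) (Magnet.AMonS S ℤ).hom P.hom inferInstance
  haveI : IsIso σ.left := inferInstanceAs (IsIso ((Over.forget _).map σ))
  rw [e, Over.comp_left]
  infer_instance

end NatCoord

variable {k : Type u} [CommRing k] {X Y : Over (Spec (CommRingCat.of k))}
  (a : Magnet.MonAct (Magnet.AMonS (Spec (CommRingCat.of k)) ℕ) X)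

/-- If an open contains the limit `0 • x` of a field-valued point `x`, it contains a generic translate
`T • x`, from which `x` is recovered by the inverse translation. -/
theorem exists_generic {K : Type u} [Field K] [Algebra k K] (x : CoactBr.sp k K ⟶ X) (O : X.left.Opens)
    (hO : ∀ z, (lift (zeroN _) x ≫ a.act).left z ∈ O) :
    ∃ (L : Type u) (_ : Field L) (_ : Algebra k L) (θ : K →ₐ[k] L)
      (g : CoactBr.sp k L ⟶ Magnet.AMonS (Spec (CommRingCat.of k)) ℤ)
      (m : CoactBr.sp k L ⟶ Magnet.AMonS (Spec (CommRingCat.of k)) ℕ),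
      (g ≫ inclG _) * m = 1 ∧ ∀ z, (lift m (CoactBr.pt θ ≫ x) ≫ a.act).left z ∈ O := by
  let T1 := CoactBr.sp k K[X]
  let cK : T1 ⟶ CoactBr.sp k K := CoactBr.pt (CAlgHom : K →ₐ[k] K[X])
  obtain ⟨mX, hmX⟩ := scN_surj (T := T1) (gl (Polynomial.X : K[X]))
  let π : T1 ⟶ X := lift mX (cK ≫ x) ≫ a.act
  let o : CoactBr.sp k K ⟶ T1 := CoactBr.pt (evalZero k K)
  have ho : o ≫ cK = 𝟙 _ := by
    rw [← CoactBr.pt_comp, ← CoactBr.pt_id]
    congr 1
    exact AlgHom.ext fun r => by simp [evalZero, CAlgHom]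
  have hπ0 : o ≫ π = lift (zeroN _) x ≫ a.act := by
    simp only [π, comp_lift_assoc]
    rw [← Category.assoc o cK, ho, Category.id_comp]
    congr 2
    refine scN_inj ?_
    rw [chS_nat, hmX, chS_zeroN, appTop_pt]
    simp [evalZero, gl]
    try rfl
  let p0 : PrimeSpectrum K := ⟨⊥, Ideal.isPrime_bot⟩
  have hmem0 : π.left (o.left p0) ∈ O := by
    show (o ≫ π).left p0 ∈ O
    rw [hπ0]
    exact hO p0
  let L : Type u := FractionRing K[X]
  let lL : K[X] →ₐ[k] L := IsScalarTower.toAlgHom k K[X] L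
  let uX : Lˣ := (IsUnit.unit (IsLocalization.map_units L
    (⟨(Polynomial.X : K[X]), mem_nonZeroDivisors_of_ne_zero Polynomial.X_ne_zero⟩ : nonZeroDivisors K[X])))
  let uG : (Γ((CoactBr.sp k L).left, ⊤))ˣ :=
    Units.map (Scheme.ΓSpecIso (CommRingCat.of L)).inv.hom.toMonoidHom uX
  obtain ⟨g, hg⟩ := chS_surj (S := Spec (CommRingCat.of k)) (M := ℤ) (T := CoactBr.sp k L)
    ((Units.coeHom _).comp (zpowersHom _ uG⁻¹))
  refine ⟨L, inferInstance, inferInstance, lL.comp CAlgHom, g, CoactBr.pt lL ≫ mX, ?_, fun z => ?_⟩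
  · refine scN_inj ?_
    have hgm : chS (g ≫ inclG _) gN = ((uG⁻¹ : _ˣ) : Γ((CoactBr.sp k L).left, ⊤)) := by
      rw [chS_map, hg]
      simp [zpowersHom_apply]
    rw [chS_mul, hgm, chS_nat, hmX, appTop_pt, chS_one]
    exact Units.inv_mul uG
  · have e : lift (CoactBr.pt lL ≫ mX) (CoactBr.pt (lL.comp CAlgHom) ≫ x) ≫ a.act = CoactBr.pt lL ≫ π := by
      simp only [π, comp_lift_assoc]
      rw [CoactBr.pt_comp, Category.assoc]
    rw [e]
    show π.left ((CoactBr.pt lL).left z) ∈ O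
    have hsp : ((CoactBr.pt lL).left z : PrimeSpectrum K[X]) ⤳ o.left p0 := by
      refine (PrimeSpectrum.le_iff_specializes _ _).1 ?_
      intro w hw
      have hw' : algebraMap K[X] L w ∈ (z : PrimeSpectrum L).asIdeal := hw
      have hw0 : w = 0 := by
        by_contra hne
        exact (z : PrimeSpectrum L).isPrime.ne_top (Ideal.eq_top_of_isUnit_mem _ hw'
          (IsLocalization.map_units L (⟨w, mem_nonZeroDivisors_of_ne_zero hne⟩ : nonZeroDivisors K[X])))
      rw [hw0]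
      exact zero_mem _
    exact hsp.mem_open (π.left ⁻¹ᵁ O).isOpen hmem0

/-- A point of a scheme over `Spec k` as a field-valued point. -/
theorem exists_field_point (q : X.left) : ∃ (K : Type u) (_ : Field K) (_ : Algebra k K)
    (x : CoactBr.sp k K ⟶ X), ∀ z, x.left z = q := by
  obtain ⟨φ, hφ⟩ : ∃ φ : CommRingCat.of k ⟶ X.left.residueField q,
      Spec.map φ = X.left.fromSpecResidueField q ≫ X.hom := ⟨_, Spec.map_preimage _⟩
  letI : Algebra k (X.left.residueField q) := φ.hom.toAlgebra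
  exact ⟨X.left.residueField q, inferInstance, inferInstance,
    Over.homMk (X.left.fromSpecResidueField q) hφ.symm, fun z => X.left.fromSpecResidueField_apply q z⟩

/-- The sweep of an open by the torus. -/
def sweep (O : X.left.Opens) :
    Magnet.AMonS (Spec (CommRingCat.of k)) ℤ ⊗ Over.mk (O.ι ≫ X.hom) ⟶ X :=
  (_ ◁ (Over.homMk O.ι rfl : Over.mk (O.ι ≫ X.hom) ⟶ X)) ≫ (a.restrict (inclG _)).act

theorem surjective_sweep (O : X.left.Opens)
    (hO : ∀ (K : Type u) [Field K] [Algebra k K] (x : CoactBr.sp k K ⟶ X) (z : (CoactBr.sp k K).left),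
      (lift (zeroN _) x ≫ a.act).left z ∈ O) :
    Surjective (sweep a O).left := by
  refine ⟨fun q => ?_⟩
  obtain ⟨K, _, _, x, hx⟩ := exists_field_point q
  obtain ⟨L, _, _, θ, g, m, hgm, hmem⟩ := exists_generic a x O (hO K x)
  let y := lift m (CoactBr.pt θ ≫ x) ≫ a.act
  let qE : CoactBr.sp k L ⟶ Over.mk (O.ι ≫ X.hom) := Over.homMk (IsOpenImmersion.lift O.ι y.left (by
      rw [O.range_ι]
      rintro _ ⟨w, rfl⟩
      exact hmem w)) (by
    show _ ≫ O.ι ≫ X.hom = _
    rw [IsOpenImmersion.lift_fac_assoc]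
    exact Over.w y)
  have e : lift g qE ≫ sweep a O = CoactBr.pt θ ≫ x := by
    have hq : qE ≫ (Over.homMk O.ι rfl : Over.mk (O.ι ≫ X.hom) ⟶ X) = y :=
      Over.OverMorphism.ext (IsOpenImmersion.lift_fac _ _ _)
    rw [sweep, lift_whiskerLeft_assoc, hq, Magnet.MonAct.lift_restrict_act, ← a.lift_mul_act, hgm, a.lift_one_act]
  let w0 : PrimeSpectrum L := ⟨⊥, Ideal.isPrime_bot⟩
  exact ⟨(lift g qE).left w0, (congrArg (fun f : _ ⟶ X => f.left w0) e).trans (hx _)⟩

variable (b : Magnet.MonAct (Magnet.AMonS (Spec (CommRingCat.of k)) ℕ) Y) (f : X ⟶ Y)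

/-- An equivariant morphism which is open near the fixed points and surjective on fixed points is surjective. -/
theorem surjective_of_equivariant (hf : Magnet.MonAct.IsEquivariant a b f) (V : X.left.Opens)
    (hopen : IsOpenMap (V.ι ≫ f.left))
    (hfix : ∀ (K : Type u) [Field K] [Algebra k K] (y : CoactBr.sp k K ⟶ Y),
      ∃ x : CoactBr.sp k K ⟶ X, x ≫ f = lift (zeroN _) y ≫ b.act ∧ ∀ z, x.left z ∈ V) :
    Surjective f.left := by
  refine ⟨fun q => ?_⟩
  obtain ⟨K, _, _, y, hy⟩ := exists_field_point q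
  let U : Y.left.Opens := ⟨Set.range (V.ι ≫ f.left), hopen.isOpen_range⟩
  obtain ⟨x₀, hx₀, hx₀V⟩ := hfix K y
  obtain ⟨L, _, _, θ, g, m, hgm, hmem⟩ := exists_generic b y U (fun z => by
    rw [← hx₀]
    exact ⟨⟨x₀.left z, hx₀V z⟩, rfl⟩)
  let y' := lift m (CoactBr.pt θ ≫ y) ≫ b.act
  let w0 : PrimeSpectrum L := ⟨⊥, Ideal.isPrime_bot⟩
  obtain ⟨v, hv⟩ := hmem w0
  obtain ⟨w, hw₁, -⟩ := Scheme.Pullback.exists_preimage_pullback (f := V.ι ≫ f.left) (g := y'.left) v w0 hv
  obtain ⟨M, _, _, z, hz⟩ := exists_field_point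
    (X := Over.mk (pullback.snd (V.ι ≫ f.left) y'.left ≫ (CoactBr.sp k L).hom)) w
  let pz : CoactBr.sp k M ⟶ CoactBr.sp k L :=
    z ≫ Over.homMk (pullback.snd (V.ι ≫ f.left) y'.left) rfl
  let vz : CoactBr.sp k M ⟶ X := z ≫ Over.homMk (pullback.fst (V.ι ≫ f.left) y'.left ≫ V.ι) (by
    show _ = pullback.snd (V.ι ≫ f.left) y'.left ≫ (CoactBr.sp k L).hom
    rw [← Over.w y', ← Over.w f, Category.assoc, ← Category.assoc (V.ι), pullback.condition_assoc])
  have e : vz ≫ f = pz ≫ y' := by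
    simp only [vz, pz, Category.assoc]
    congr 1
    apply Over.OverMorphism.ext
    show (pullback.fst (V.ι ≫ f.left) y'.left ≫ V.ι) ≫ f.left = pullback.snd (V.ι ≫ f.left) y'.left ≫ y'.left
    rw [Category.assoc, pullback.condition]
  let x : CoactBr.sp k M ⟶ X := lift ((pz ≫ g) ≫ inclG _) vz ≫ a.act
  have ex : x ≫ f = pz ≫ CoactBr.pt θ ≫ y := by
    rw [Magnet.MonAct.isEquivariant_iff] at hf
    simp only [x, Category.assoc]
    rw [hf, e]
    have h1 : lift (pz ≫ g ≫ inclG _) (pz ≫ y') ≫ b.act = pz ≫ (lift (g ≫ inclG _) y' ≫ b.act) := by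
      exact (comp_lift_assoc _ _ _ _).symm
    rw [h1, ← b.lift_mul_act, hgm, b.lift_one_act]
  let u0 : PrimeSpectrum M := ⟨⊥, Ideal.isPrime_bot⟩
  exact ⟨x.left u0, (congrArg (fun f : _ ⟶ Y => f.left u0) ex).trans (hy _)⟩

end Groth.Agent.Magnet16
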